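import Cfsg.Agent.Lib.PrimeGraphOdd.Elements
import Cfsg.Agent.Lib.PrimeGraphClassical.Sp

/-!
Adjacency of two odd primes, and of the characteristic with another prime.
-/

set_option autoImplicit false
set_option linter.unusedSectionVars false
set_option maxHeartbeats 800000

namespace CfsgLib.PrimeGraphOdd

open Polynomial CfsgLib.Classical CfsgLib.Classical.SympTrans CfsgLib.Orth
open scoped Matrix

universe u

variable {F : Type u} [Field F] [Fintype F] {p : ℕ} [hp : Fact p.Prime] [CharP F p] {n m N : ℕ}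

include hp in
theorem eq_one_of_commute {ι : Type*} [Fintype ι] [DecidableEq ι] [Nonempty ι] {A U : Matrix ι ι F}
    (hN : (N : F) ≠ 0) (hA : A ^ N = 1) (hsq : Squarefree A.charpoly) (hU : U ^ p = 1) (hc : Commute A U) :
    U = 1 := by
  have hnil : IsNilpotent (U - 1) := ⟨p, by
    rw [sub_pow_char_of_commute (p := p) (Commute.one_right U), one_pow, hU, sub_self]⟩
  have h := SympPrimeGraph.eq_zero_of_squarefree (f := Matrix.toLin' A) (R := X ^ N - 1)
    (squarefree_X_pow_sub_one hN) (by rw [aeval_toLin]; simp [hA])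
    (by rw [Matrix.charpoly_toLin']; exact hsq) (N := Matrix.toLin' (U - 1))
    (by
      show Matrix.toLin' (U - 1) ∘ₗ Matrix.toLin' A = Matrix.toLin' A ∘ₗ Matrix.toLin' (U - 1)
      rw [← Matrix.toLin'_mul, ← Matrix.toLin'_mul, sub_mul, mul_sub, one_mul, mul_one, hc.eq])
    (hnil.map (Matrix.toLinAlgEquiv' : _ ≃ₐ[F] _))
  exact sub_eq_zero.1 (Matrix.toLin'.injective (h.trans (map_zero _).symm))

theorem Pal.extend {r : ℕ} {f : F[X]} (hr : r.Prime) (h : Pal m r f) :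
    Pal (1 + m) r ((X - 1) ^ 2 * f) := by
  obtain ⟨P, hP, -, hPf, hP1⟩ := h.exists_factor hr
  have hfac : Factors r ((X - 1) ^ 2 * f) := (factors_X_sub_one_pow r 2).mul h.factors
  refine ⟨(monic_X_sub_one.pow 2).mul h.monic, ?_, ?_, ?_, hfac,
    gen_of_factor hr hfac hP (hPf.mul_left _) hP1⟩
  · rw [(monic_X_sub_one.pow 2).natDegree_mul h.monic, natDegree_pow, h.deg,
      show (X - 1 : F[X]).natDegree = 1 by simpa using natDegree_X_sub_C (1 : F)]
    ring
  · rw [UnitaryTwistPoly.tw_mul, tw_pow_X_sub_one, h.fixed]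
  · rw [mul_coeff_zero, coeff_zero_X_sub_one_pow, h.const]; norm_num

theorem orderOf_mk_two {g : Matrix.symplecticGroup (Fin n) F} {k : ℕ} (hk : k.Prime)
    (hg : orderOf g = 2 * k) (hnc : g ^ k ∉ Subgroup.center (Matrix.symplecticGroup (Fin n) F)) :
    orderOf (g : Cfsg.PSp n F) = 2 * k := by
  set o := orderOf (g : Cfsg.PSp n F)
  have h1 : o ∣ 2 * k := hg ▸ orderOf_map_dvd (QuotientGroup.mk' _) g
  have hmem : g ^ o ∈ Subgroup.center (Matrix.symplecticGroup (Fin n) F) := by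
    rw [← QuotientGroup.eq_one_iff, QuotientGroup.mk_pow, pow_orderOf_eq_one]
  have h2 : k ∣ o := by
    have h := orderOf_dvd_of_pow_eq_one (x := g) (n := 2 * o) (by
      rw [mul_comm, pow_mul, pow_two]; exact SympPrimeGraph.center_sq hmem)
    rw [hg] at h
    exact Nat.dvd_of_mul_dvd_mul_left two_pos h
  obtain ⟨a, ha⟩ := h2
  rw [ha, mul_comm 2 k] at h1
  rcases (Nat.dvd_prime Nat.prime_two).1 (Nat.dvd_of_mul_dvd_mul_left hk.pos h1) with rfl | rfl
  · rw [mul_one] at ha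
    exact absurd (ha ▸ hmem) hnc
  · rw [ha, mul_comm]

section symp

/-- A fixed vector of the embedded smaller group. -/
def fixedVec (F : Type*) [Field F] (m : ℕ) : Fin (1 + m) ⊕ Fin (1 + m) → F :=
  Pi.single (.inl (Fin.castAdd m 0)) 1

theorem em_fix (g : Matrix.symplecticGroup (Fin m) F) :
    app (Schur.SpFam.em 1 g) (fixedVec F m) = fixedVec F m := by
  have hres : Schur.SpFam.res 1 (fixedVec F m) = 0 := by
    funext i
    rcases i with i | i
    · show (Pi.single (Sum.inl (Fin.castAdd m 0)) (1 : F) : Fin (1 + m) ⊕ Fin (1 + m) → F)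
        (Sum.inl (Fin.natAdd 1 i)) = 0
      exact Pi.single_eq_of_ne (fun h => by
        have := congrArg Fin.val (Sum.inl.inj h)
        simp only [Fin.val_natAdd, Fin.val_castAdd, Fin.val_zero] at this
        omega) _
    · show (Pi.single (Sum.inl (Fin.castAdd m 0)) (1 : F) : Fin (1 + m) ⊕ Fin (1 + m) → F)
        (Sum.inr (Fin.natAdd 1 i)) = 0
      exact Pi.single_eq_of_ne Sum.inr_ne_inl _
  rw [Schur.SpFam.app_em, hres]
  simp [app, Matrix.mulVec_zero]

theorem em_not_central {g : Matrix.symplecticGroup (Fin m) F} (hg : g ≠ 1) :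
    Schur.SpFam.em 1 g ∉ Subgroup.center (Matrix.symplecticGroup (Fin (1 + m)) F) := fun h => by
  obtain ⟨c, hc⟩ := (FormRep.Symplectic.center_iff _).1 h
  have e := congrFun (em_fix g) (Sum.inl (Fin.castAdd m 0))
  rw [app, hc, Matrix.smul_mulVec, Matrix.one_mulVec] at e
  simp [fixedVec] at e
  refine hg (Schur.SpFam.em_injective (k := 1) (Subtype.ext ?_))
  rw [hc, e, one_smul, map_one]
  rfl

theorem exists_neg_one (h2 : (2 : F) ≠ 0) (hm : 1 ≤ m) :
    ∃ z : Matrix.symplecticGroup (Fin m) F, z ≠ 1 ∧ z * z = 1 ∧ ∀ g, Commute z g := by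
  refine ⟨⟨-1, SymplecticGroup.neg_mem (one_mem _)⟩, fun h => ?_, Subtype.ext ?_, fun g => Subtype.ext ?_⟩
  · have := congrFun (congrFun (congrArg Subtype.val h) (Sum.inl ⟨0, hm⟩)) (Sum.inl ⟨0, hm⟩)
    simp at this
    exact h2 (by linear_combination -this)
  · show (-1 : Matrix (Fin m ⊕ Fin m) (Fin m ⊕ Fin m) F) * -1 = 1
    rw [neg_mul_neg, one_mul]
  · show (-1 : Matrix (Fin m ⊕ Fin m) (Fin m ⊕ Fin m) F) * _ = _ * -1
    rw [neg_one_mul, mul_neg_one]

include hp in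
theorem sp_two_p (h2 : (2 : F) ≠ 0) (hp2 : p ≠ 2) (hm : 1 ≤ m) :
    2 * p ∈ Set.range (orderOf : Cfsg.PSp (1 + m) F → ℕ) := by
  obtain ⟨z, hz1, hzz, -⟩ := exists_neg_one h2 hm
  set y := Schur.SpFam.em 1 z
  set v := fixedVec F m
  have hy : orderOf y = 2 := (orderOf_injective _ (Schur.SpFam.em_injective (k := 1)) z).trans
    (orderOf_eq_prime (by rw [pow_two, hzz]) hz1)
  set u := T v (1 : F)
  have hcomm : Commute y u := by
    have h := conj_T y v (1 : F)
    rw [em_fix, mul_inv_eq_iff_eq_mul] at h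
    exact h
  have hTpow : ∀ j : ℕ, u ^ j = T v (j : F) := fun j => by
    induction j with
    | zero => rw [pow_zero, Nat.cast_zero, T_zero]
    | succ j ih => rw [pow_succ, ih, T_mul, Nat.cast_succ]
  have hu1 : u ≠ 1 := fun h => by
    set w : Fin (1 + m) ⊕ Fin (1 + m) → F := Pi.single (.inr (Fin.castAdd m 0)) 1
    have e := congrArg (fun g => app g w) h
    simp only [u, app_T, app_one] at e
    have e2 := congrFun e (.inl (Fin.castAdd m 0))
    rw [f_swap v w, f_inr] at e2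
    simp [v, w, fixedVec] at e2
  have hu : orderOf u = p := orderOf_eq_prime (by rw [hTpow, CharP.cast_eq_zero, T_zero]) hu1
  have hco : (2 : ℕ).Coprime p := (Nat.coprime_primes Nat.prime_two hp.out).2 (Ne.symm hp2)
  have hg : orderOf (y * u) = 2 * p := by
    rw [hcomm.orderOf_mul_eq_mul_orderOf_of_coprime (by rw [hy, hu]; exact hco), hy, hu]
  refine ⟨((y * u : Matrix.symplecticGroup (Fin (1 + m)) F) : Cfsg.PSp (1 + m) F), orderOf_mk_two hp.out hg ?_⟩
  obtain ⟨k, hk⟩ := hp.out.odd_of_ne_two hp2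
  rw [hcomm.mul_pow, hTpow p, CharP.cast_eq_zero, T_zero, mul_one, hk, pow_succ, pow_mul,
    show y ^ 2 = 1 by rw [← hy, pow_orderOf_eq_one], one_pow, one_mul]
  exact em_not_central hz1

include hp in
theorem sp_p_iff {s : ℕ} (hs : s.Prime) (hs2 : s ≠ 2) (hsp : s ≠ p) (hp2 : p ≠ 2) (hm : 1 ≤ m)
    (h2 : (2 : F) ≠ 0) :
    s * p ∈ Set.range (orderOf : Cfsg.PSp (1 + m) F → ℕ) ↔ Crit F m s := by
  have hodd : Odd s := hs.odd_of_ne_two hs2
  have hcop : s.Coprime p := (Nat.coprime_primes hs hp.out).2 hsp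
  rw [PrimeGraphClassical.mem_range_iff_odd (hodd.mul (hp.out.odd_of_ne_two hp2))]
  constructor
  · rintro ⟨g, hg⟩
    have hx : orderOf (g ^ p) = s := by
      rw [orderOf_pow' _ hp.out.ne_zero, hg, Nat.gcd_eq_right (dvd_mul_left p s),
        Nat.mul_div_cancel _ hp.out.pos]
    have hu : orderOf (g ^ s) = p := by
      rw [orderOf_pow' _ hs.ne_zero, hg, Nat.gcd_eq_right (dvd_mul_right s p),
        Nat.mul_div_cancel_left _ hs.pos]
    have hpal := sp_pal (p := p) hs.pos hcop hx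
    by_contra hc
    have hsq := (shape_squarefree h2 hs hodd hpal (by rwa [Nat.add_sub_cancel_left])).of_mul_right
    haveI : Nonempty (Fin (1 + m) ⊕ Fin (1 + m)) := ⟨Sum.inl ⟨0, by omega⟩⟩
    set A := ((g ^ p : Matrix.symplecticGroup (Fin (1 + m)) F) : Matrix (Fin (1 + m) ⊕ Fin (1 + m)) (Fin (1 + m) ⊕ Fin (1 + m)) F)
      with hA
    set U := ((g ^ s : Matrix.symplecticGroup (Fin (1 + m)) F) : Matrix (Fin (1 + m) ⊕ Fin (1 + m)) (Fin (1 + m) ⊕ Fin (1 + m)) F)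
      with hU
    have hAs : A ^ s = 1 := by
      rw [hA, ← SubmonoidClass.coe_pow _ s, ← hx, pow_orderOf_eq_one]; rfl
    have hUp : U ^ p = 1 := by
      rw [hU, ← SubmonoidClass.coe_pow _ p, ← hu, pow_orderOf_eq_one]; rfl
    have h1 : U = 1 := eq_one_of_commute (p := p) (N := s) (cast_ne_zero_of_coprime (p := p) hcop) hAs hsq hUp
      (congrArg Subtype.val ((Commute.refl g).pow_pow p s).eq)
    exact hp.out.ne_one (hu ▸ orderOf_eq_one_iff.2 (Subtype.ext h1))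
  · rintro ⟨f, hf⟩
    obtain ⟨g, hg, -⟩ := sp_exists (p := p) hs.pos hf
    exact SympPrimeGraph.exists_commuting hs hsp (hg ▸ orderOf_dvd_natCard g)

end symp

section orth

variable {Q : QuadraticForm F (Unit ⊕ (Fin n ⊕ Fin n) → F)}

include hp in
theorem og_two_p (hB : Nondeg Q) (hQ : ⇑Q = Cfsg.quadFormOdd n F) (h2 : (2 : F) ≠ 0) (hp2 : p ≠ 2)
    (hn : 2 ≤ n) : ∃ g : Grp Q, g ∈ Cfsg.Omega F ⇑Q ∧ orderOf g = 2 * p := by
  obtain ⟨h0, hyp, hx0, hy0⟩ := std_facts hQ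
  let i : Fin n := ⟨0, by omega⟩
  let j : Fin n := ⟨1, by omega⟩
  have hij : i ≠ j := by simp [i, j, Fin.ext_iff]
  obtain ⟨U, hU, -, hUfix⟩ := exists_unipotent (p := p) hB h2 (v := ey F i) (hyp.qe i)
    (by rw [hyp.ef, if_pos rfl]) (hx0 i) (hy0 i) (by rw [h0]; exact one_ne_zero)
  set w := ((-1 : F) ^ n) • ex F j + ey F j
  have hw : Q w = (-1) ^ n := by
    rw [q_add, q_smul, hyp.qe, hyp.qf, b_smul_left, hyp.ef, if_pos rfl]; ring
  have hwu : QuadraticMap.polar (⇑Q) w (ex F i) = 0 := by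
    rw [b_add_left, b_smul_left, hyp.ee, b_comm (ey F j), hyp.ef, if_neg hij]; ring
  have hw0 : QuadraticMap.polar (⇑Q) w (e₀ F n) = 0 := by
    rw [b_add_left, b_smul_left, hx0, hy0]; ring
  obtain ⟨a, ha, hac⟩ := exists_neg hB
  obtain ⟨r, hr⟩ := exists_refl hB (v := w) (by rw [hw]; exact pow_ne_zero _ (neg_ne_zero.2 one_ne_zero))
  have hy : a * r ∈ Cfsg.Omega F ⇑Q := (neg_refl_mem_omega_iff hB hQ h2 (by omega) ha hr).2
    ⟨(-1) ^ n, by rw [hw]⟩
  have haa : a * a = 1 := ext_ap fun x => by rw [ap_mul, ha, ha, neg_neg, ap_one]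
  have hy2 : orderOf (a * r) = 2 := by
    refine orderOf_eq_prime ?_ fun h => ?_
    · rw [(hac r).mul_pow, pow_two, pow_two, haa, refl_mul_self hr, one_mul]
    · have e := congrArg (fun g => ap g (ex F i)) h
      simp only [ap_mul, ap_one, ha, refl_fix hr hwu] at e
      have e1 := congrFun e (Sum.inr (Sum.inl i))
      simp [ex] at e1
      exact h2 (by linear_combination -e1)
  have hcomm : Commute U (a * r) := by
    refine ((hac U).symm).mul_right (refl_commute hr (hUfix w hwu hw0)).symm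
  have hUm : U ∈ Cfsg.Omega F ⇑Q := mem_omega_of_odd hB h2 (by omega) (hp.out.odd_of_ne_two hp2)
    (hU ▸ pow_orderOf_eq_one U)
  refine ⟨U * (a * r), mul_mem hUm hy, ?_⟩
  rw [hcomm.orderOf_mul_eq_mul_orderOf_of_coprime (by
    rw [hU, hy2]; exact (Nat.coprime_primes hp.out Nat.prime_two).2 hp2), hU, hy2, mul_comm]

include hp in
theorem og_p_iff {Q : QuadraticForm F (Unit ⊕ (Fin (1 + m) ⊕ Fin (1 + m)) → F)} (hB : Nondeg Q)
    (hQ : ⇑Q = Cfsg.quadFormOdd (1 + m) F) (h2 : (2 : F) ≠ 0) {s : ℕ} (hs : s.Prime) (hs2 : s ≠ 2)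
    (hsp : s ≠ p) (hp2 : p ≠ 2) :
    (∃ g : Grp Q, g ∈ Cfsg.Omega F ⇑Q ∧ orderOf g = s * p) ↔ Crit F m s := by
  have hodd : Odd s := hs.odd_of_ne_two hs2
  have hcop : s.Coprime p := (Nat.coprime_primes hs hp.out).2 hsp
  constructor
  · rintro ⟨g, -, hg⟩
    have hx : orderOf (g ^ p) = s := by
      rw [orderOf_pow' _ hp.out.ne_zero, hg, Nat.gcd_eq_right (dvd_mul_left p s),
        Nat.mul_div_cancel _ hp.out.pos]
    have hu : orderOf (g ^ s) = p := by
      rw [orderOf_pow' _ hs.ne_zero, hg, Nat.gcd_eq_right (dvd_mul_right s p),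
        Nat.mul_div_cancel_left _ hs.pos]
    obtain ⟨f, hχ, hpal⟩ := og_pal (p := p) hB h2 hodd hcop hx
    by_contra hc
    have hsq := shape_squarefree h2 hs hodd hpal (by rwa [Nat.add_sub_cancel_left])
    rw [← hχ] at hsq
    have hpow : ∀ (z : Grp Q) (k : ℕ), orderOf z = k →
        ((z : GL (Unit ⊕ (Fin (1 + m) ⊕ Fin (1 + m))) F) :
          Matrix (Unit ⊕ (Fin (1 + m) ⊕ Fin (1 + m))) (Unit ⊕ (Fin (1 + m) ⊕ Fin (1 + m))) F) ^ k = 1 :=
      fun z k hk => by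
      rw [← Units.val_pow_eq_pow_val, ← SubmonoidClass.coe_pow, ← hk, pow_orderOf_eq_one]; rfl
    have h1 := eq_one_of_commute (p := p) (cast_ne_zero_of_coprime (p := p) hcop) (hpow _ _ hx) hsq
      (hpow _ _ hu) (congrArg (fun z : Grp Q => ((z : GL (Unit ⊕ (Fin (1 + m) ⊕ Fin (1 + m))) F) :
          Matrix (Unit ⊕ (Fin (1 + m) ⊕ Fin (1 + m))) (Unit ⊕ (Fin (1 + m) ⊕ Fin (1 + m))) F))
        ((Commute.refl g).pow_pow p s).eq)
    exact hp.out.ne_one (hu ▸ orderOf_eq_one_iff.2 (Subtype.ext (Units.ext h1)))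
  · rintro ⟨f, hf⟩
    obtain ⟨g, hg, -, hv⟩ := og_exists (p := p) hB hQ h2 hodd hcop (hf.extend hs)
    obtain ⟨u, v, z, gu, -, gz, qu, -, buv, buz, bvz, qz⟩ := hv (by simp)
    obtain ⟨U, hU, hUc, -⟩ := exists_unipotent (p := p) hB h2 qu buv buz bvz qz
    refine ⟨g * U, mul_mem (mem_omega_of_odd hB h2 (by omega) hodd (hg ▸ pow_orderOf_eq_one g))
      (mem_omega_of_odd hB h2 (by omega) (hp.out.odd_of_ne_two hp2) (hU ▸ pow_orderOf_eq_one U)), ?_⟩
    rw [(hUc g gu gz).symm.orderOf_mul_eq_mul_orderOf_of_coprime (by rw [hg, hU]; exact hcop), hg, hU]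

include hp in
theorem odd_iff (hB : Nondeg Q) (hQ : ⇑Q = Cfsg.quadFormOdd n F) (h2 : (2 : F) ≠ 0) (hn : 2 ≤ n)
    (hodd : Odd N) (hNp : N.Coprime p) :
    N ∈ Set.range (orderOf : Cfsg.POmega F ⇑Q → ℕ) ↔ N ∈ Set.range (orderOf : Cfsg.PSp n F → ℕ) := by
  rw [mem_range_iff hB h2 hn, PrimeGraphClassical.mem_range_iff_odd hodd]
  constructor
  · rintro ⟨g, -, hg⟩
    obtain ⟨f, -, hf⟩ := og_pal (p := p) hB h2 hodd hNp hg
    obtain ⟨x, hx, -⟩ := sp_exists (p := p) hodd.pos hf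
    exact ⟨x, hx⟩
  · rintro ⟨g, hg⟩
    obtain ⟨x, hx, -⟩ := og_exists (p := p) hB hQ h2 hodd hNp (sp_pal (p := p) hodd.pos hNp hg)
    exact ⟨x, mem_omega_of_odd hB h2 (by omega) hodd (hx ▸ pow_orderOf_eq_one x), hx⟩

end orth

end CfsgLib.PrimeGraphOdd
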