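import Cfsg.Agent.Lib.Classical.OmegaTests
import Cfsg.Agent.Lib.Classical.OrthPOrder
import Cfsg.Agent.Lib.Classical.OrthForms

/-!
Some explicit isometries of the odd-dimensional quadratic space and membership in `Ω`.
-/

set_option autoImplicit false
set_option linter.unusedSectionVars false

namespace CfsgLib.PrimeGraphOdd

open CfsgLib.Orth CfsgLib.Classical.WittBasis
open scoped Matrix

variable {F : Type*} [Field F] [Finite F] {n : ℕ}
variable {Q : QuadraticForm F (Unit ⊕ (Fin n ⊕ Fin n) → F)}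

local notation "B" => QuadraticMap.polar (DFunLike.coe Q)
local notation "V" => (Unit ⊕ (Fin n ⊕ Fin n) → F)

theorem finrank_space : Module.finrank F V = 2 * n + 1 := by
  simp [Module.finrank_fintype_fun_eq_card]
  ring

/-- The Gram matrix. -/
theorem exists_gram {ι : Type} [Fintype ι] [DecidableEq ι] {Q : QuadraticForm F (ι → F)} (hB : Nondeg Q) :
    ∃ G : Matrix ι ι F, IsUnit G.det ∧ ∀ g : Grp Q,
      ((g : GL ι F) : Matrix ι ι F)ᵀ * G * ((g : GL ι F) : Matrix ι ι F) = G := by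
  refine ⟨LinearMap.toMatrix₂' F (QuadraticMap.polarBilin Q), (Matrix.nondegenerate_iff_det_ne_zero.mp
    (LinearMap.nondegenerate_toMatrix₂'_iff.mpr (bilin_nondeg hB))).isUnit, fun g => ?_⟩
  set M := ((g : GL ι F) : Matrix ι ι F)
  have h : (QuadraticMap.polarBilin Q).compl₁₂ (Matrix.toLin' M) (Matrix.toLin' M) = QuadraticMap.polarBilin Q :=
    LinearMap.ext₂ fun x y => ap_b g x y
  have := congrArg (LinearMap.toMatrix₂' F) h
  rwa [LinearMap.toMatrix₂'_compl₁₂, LinearMap.toMatrix'_toLin'] at this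

theorem exists_neg {ι : Type} [Fintype ι] [DecidableEq ι] {Q : QuadraticForm F (ι → F)} (hB : Nondeg Q) :
    ∃ m : Grp Q, (∀ x, ap m x = -x) ∧ ∀ g : Grp Q, Commute m g := by
  obtain ⟨m, hm⟩ := Orth.exists_iso hB (-LinearMap.id) fun x => by
    simp [QuadraticMap.map_neg]
  refine ⟨m, fun x => by simpa using hm x, fun g => ext_ap fun x => ?_⟩
  rw [ap_mul, ap_mul, hm, hm]
  simp only [LinearMap.neg_apply, LinearMap.id_coe, id_eq]
  rw [← neg_one_smul F (ap g x), ← neg_one_smul F x, ap_smul]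

theorem refl_commute {ι : Type} [Fintype ι] [DecidableEq ι] {Q : QuadraticForm F (ι → F)} {w : ι → F}
    {r g : Grp Q} (hr : IsRefl w r) (hg : ap g w = w) : Commute r g := by
  refine ext_ap fun x => ?_
  rw [ap_mul, ap_mul, hr.2, hr.2, ap_sub, ap_smul, hg]
  congr 3
  nth_rw 1 [← hg]
  exact ap_b g w x

/-- Elements of odd order lie in `Ω`. -/
theorem mem_omega_of_odd (hB : Nondeg Q) (h2 : (2 : F) ≠ 0) (hn : 1 ≤ n) {g : Grp Q} {N : ℕ}
    (hN : Odd N) (hg : g ^ N = 1) : g ∈ Cfsg.Omega F ⇑Q := by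
  rw [(omega_eq_ker_psi hB h2 (by rw [finrank_space]; omega) (one_ne_zero (α := F))).1, MonoidHom.mem_ker]
  have h := congrArg (psi hB (1 : F)) hg
  rw [map_pow, map_one] at h
  obtain ⟨k, rfl⟩ := hN
  have hsq : ∀ z : ℤˣ × ℤˣ, z ^ 2 = 1 := fun z => Prod.ext (Int.units_sq _) (Int.units_sq _)
  rwa [pow_succ, pow_mul, hsq, one_pow, one_mul] at h

/-- The first basis vector. -/
def e₀ (F : Type*) [Field F] (n : ℕ) : Unit ⊕ (Fin n ⊕ Fin n) → F := Pi.single (.inl ()) 1

/-- The first vectors of the pairs. -/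
def ex (F : Type*) [Field F] {n : ℕ} (i : Fin n) : Unit ⊕ (Fin n ⊕ Fin n) → F := Pi.single (.inr (.inl i)) 1

/-- The second vectors of the pairs. -/
def ey (F : Type*) [Field F] {n : ℕ} (i : Fin n) : Unit ⊕ (Fin n ⊕ Fin n) → F := Pi.single (.inr (.inr i)) 1

theorem std_facts (hQ : ⇑Q = Cfsg.quadFormOdd n F) :
    Q (e₀ F n) = 1 ∧ IsHyp Q (ex F (n := n)) (ey F (n := n)) ∧
      (∀ i, B (ex F i) (e₀ F n) = 0) ∧ ∀ i, B (ey F i) (e₀ F n) = 0 := by
  refine ⟨?_, ⟨fun i => ?_, fun i => ?_, fun i j => ?_, fun i j => ?_, fun i j => ?_⟩, fun i => ?_, fun i => ?_⟩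
  all_goals simp only [hQ, polar_odd, Cfsg.quadFormOdd, e₀, ex, ey, Pi.single_apply]
  all_goals simp [eq_comm]

/-- The negative of a reflection and its spinor norm. -/
theorem neg_refl_mem_omega_iff (hB : Nondeg Q) (hQ : ⇑Q = Cfsg.quadFormOdd n F) (h2 : (2 : F) ≠ 0)
    (hn : 1 ≤ n) {m r : Grp Q} {w : V} (hm : ∀ x, ap m x = -x) (hr : IsRefl w r) :
    m * r ∈ Cfsg.Omega F ⇑Q ↔ IsSquare ((-1 : F) ^ n * Q w) := by
  classical
  obtain ⟨h0, hhyp, hx0, hy0⟩ := std_facts hQ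
  have hfr : 2 ≤ Module.finrank F V := by rw [finrank_space]; omega
  obtain ⟨g, g1, g2, g3, gd, gs⟩ := exists_scale hB hfr hhyp (fun _ => (-1 : F))
    fun _ => neg_ne_zero.2 one_ne_zero
  obtain ⟨r₀, hr₀⟩ := exists_refl hB (v := e₀ F n) (by rw [h0]; exact one_ne_zero)
  have hg : g = m * r₀ := by
    refine Subtype.ext (Units.ext (Matrix.ext_of_mulVec_single fun j => ?_))
    show ap g (Pi.single j 1) = ap (m * r₀) (Pi.single j 1)
    rw [ap_mul, hm]
    rcases j with j | j | j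
    · rw [show (Pi.single (Sum.inl j) (1 : F) : V) = e₀ F n from rfl, refl_self hr₀, neg_neg, g3 _ hx0 hy0]
    · rw [show (Pi.single (Sum.inr (Sum.inl j)) (1 : F) : V) = ex F j from rfl, g1,
        refl_fix hr₀ (by rw [b_comm]; exact hx0 j), neg_one_smul]
    · rw [show (Pi.single (Sum.inr (Sum.inr j)) (1 : F) : V) = ey F j from rfl, g2,
        refl_fix hr₀ (by rw [b_comm]; exact hy0 j), inv_neg_one, neg_one_smul]
  obtain ⟨hd, hs⟩ := class_pair hB hfr hr₀ hr
  have e : m * r = g * (r₀ * r) := by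
    rw [hg, mul_assoc, ← mul_assoc r₀, refl_mul_self hr₀, one_mul]
  rw [mem_omega_iff hB hfr (fun h => by rw [finrank_space] at h; omega), e, map_mul (dickson hB) g, map_mul (spinor Q 1) g, gd, hd]
  simp only [mul_one, true_and]
  rw [gs h2, hs h2, h0, one_mul, Finset.prod_const, Finset.card_univ, Fintype.card_fin,
    ← sqc_mul (pow_ne_zero _ (neg_ne_zero.2 one_ne_zero)) hr.1, sqc_eq_one]
  exact ⟨fun h => h h2, fun h _ => h⟩

/-- An element of order `p` commuting with everything fixing three given vectors. -/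
theorem exists_unipotent {p : ℕ} [hp : Fact p.Prime] [CharP F p] (hB : Nondeg Q) (h2 : (2 : F) ≠ 0)
    {u v z : V} (hu : Q u = 0) (huv : B u v = 1) (huz : B u z = 0) (hvz : B v z = 0) (hz : Q z ≠ 0) :
    ∃ U : Grp Q, orderOf U = p ∧ (∀ g : Grp Q, ap g u = u → ap g z = z → Commute U g) ∧
      ∀ x, B x u = 0 → B x z = 0 → ap U x = x := by
  obtain ⟨U, hU⟩ := exists_siegel hB hu huz
  have hpow : ∀ j : ℕ, IsSiegel u ((j : F) • z) (U ^ j) := fun j => by
    induction j with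
    | zero => rw [pow_zero, Nat.cast_zero, zero_smul]; exact siegel_one hu
    | succ j ih => rw [pow_succ, Nat.cast_succ, add_smul, one_smul]; exact siegel_mul ih hU
  refine ⟨U, orderOf_eq_prime ?_ fun h => ?_, fun g hgu hgz => ext_ap fun x => ?_,
    fun x h₁ h₂ => siegel_fix hU h₁ h₂⟩
  · have h := hpow p
    rw [CharP.cast_eq_zero, zero_smul] at h
    exact siegel_unique h (siegel_one hu)
  · have e := hU.2.2 v
    rw [h, ap_one, b_comm v u, huv, hvz, one_smul, zero_smul, sub_zero, mul_one] at e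
    have e' := congrArg (B z) e
    simp only [b_sub_right, b_add_right, b_smul_right, b_comm z v, hvz, b_self, b_comm z u, huz] at e'
    exact mul_ne_zero h2 hz (by linear_combination -e')
  · rw [ap_mul, ap_mul, hU.2.2, hU.2.2]
    simp only [ap_sub, ap_add, ap_smul, hgu, hgz]
    have h1 : B (ap g x) u = B x u := by conv_lhs => rw [← hgu, ap_b]
    have h3 : B (ap g x) z = B x z := by conv_lhs => rw [← hgz, ap_b]
    rw [h1, h3]

/-- `PΩ` is `Ω`. -/
theorem mem_range_iff (hB : Nondeg Q) (h2 : (2 : F) ≠ 0) (hn : 2 ≤ n) (m : ℕ) :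
    m ∈ Set.range (orderOf : Cfsg.POmega F ⇑Q → ℕ) ↔
      ∃ g : Grp Q, g ∈ Cfsg.Omega F ⇑Q ∧ orderOf g = m := by
  have hfr : 5 ≤ Module.finrank F V := by rw [finrank_space]; omega
  have hno := no_neg_of_odd hB h2 (by rw [finrank_space]; exact odd_two_mul_add_one n)
  have hc : Subgroup.center (Cfsg.Omega F ⇑Q) = ⊥ :=
    Subgroup.card_eq_one.1 ((card_center_omega hB hfr).1 fun g hg hm => absurd ⟨g, hg, hm⟩ hno)
  have hinj : Function.Injective (QuotientGroup.mk' (Subgroup.center (Cfsg.Omega F ⇑Q))) := by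
    rw [← MonoidHom.ker_eq_bot_iff, QuotientGroup.ker_mk', hc]
  constructor
  · rintro ⟨y, rfl⟩
    obtain ⟨x, rfl⟩ := QuotientGroup.mk'_surjective _ y
    exact ⟨x, x.2, by rw [orderOf_injective _ hinj, Subgroup.orderOf_coe]⟩
  · rintro ⟨g, hg, rfl⟩
    exact ⟨QuotientGroup.mk' _ (⟨g, hg⟩ : Cfsg.Omega F ⇑Q), by
      rw [orderOf_injective _ hinj, Subgroup.orderOf_mk]⟩

end CfsgLib.PrimeGraphOdd
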