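import Cfsg.Agent.Lib.PrimeGraphOdd.Mat
import Cfsg.Agent.Lib.PrimeGraphOdd.OrthTools
import Cfsg.Agent.Lib.Classical.OrthPrimeCount

/-!
Elements of odd order, prime to the characteristic, of `Sp(2n,q)` and of `O(2n+1,q)`.
-/

set_option autoImplicit false
set_option linter.unusedSectionVars false
set_option maxHeartbeats 800000

namespace CfsgLib.PrimeGraphOdd

open Polynomial CfsgLib.Classical CfsgLib.Classical.UnitaryTwistPoly CfsgLib.Orth
open scoped Matrix

universe u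

variable {F : Type u} [Field F] [Fintype F] {p : ℕ} [hp : Fact p.Prime] [CharP F p] {n N : ℕ}

local notation "τ" => tw (RingHom.id F)

include hp in
theorem cast_ne_zero_of_coprime (hN : N.Coprime p) : (N : F) ≠ 0 := fun h => by
  rw [CharP.cast_eq_zero_iff F p] at h
  exact hp.out.ne_one (Nat.eq_one_of_dvd_coprimes hN h dvd_rfl)

section symp

include hp in
theorem sp_pal (hN0 : 0 < N) (hNp : N.Coprime p) {g : Matrix.symplecticGroup (Fin n) F} (hg : orderOf g = N) :
    Pal n N (g : Matrix (Fin n ⊕ Fin n) (Fin n ⊕ Fin n) F).charpoly := by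
  set A := (g : Matrix (Fin n ⊕ Fin n) (Fin n ⊕ Fin n) F)
  have hA : A ^ N = 1 := by
    show (g : Matrix (Fin n ⊕ Fin n) (Fin n ⊕ Fin n) F) ^ N = 1
    rw [← SubmonoidClass.coe_pow, ← hg, pow_orderOf_eq_one]; rfl
  obtain ⟨h0, hrev⟩ := SympCompanion.charpoly_palindromic g
  refine ⟨Matrix.charpoly_monic A, ?_, ?_, h0, factors_charpoly (cast_ne_zero_of_coprime (p := p) hNp) hA,
    fun m hm => ?_⟩
  · rw [Matrix.charpoly_natDegree_eq_dim, Fintype.card_sum, Fintype.card_fin, two_mul]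
  · rw [SympPrimeOrder.tw_eq_reverse h0, hrev]
  · rcases Nat.eq_zero_or_pos m with rfl | hm0
    · exact dvd_zero _
    rw [← hg]
    refine orderOf_dvd_of_pow_eq_one (Subtype.ext ?_)
    rw [SubmonoidClass.coe_pow]
    exact OrthPrimeReal.pow_eq_one_of_factors (p := p) hm0 A hNp hA hm

include hp in
theorem sp_exists (hN0 : 0 < N) {f : F[X]} (hf : Pal n N f) :
    ∃ g : Matrix.symplecticGroup (Fin n) F, orderOf g = N ∧
      (g : Matrix (Fin n ⊕ Fin n) (Fin n ⊕ Fin n) F).charpoly = f := by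
  obtain ⟨g, hg, hgc⟩ := SympCompanion.exists_semisimple (p := p) f hf.monic hf.deg hf.const hf.rev
  have hA := OrthPrimeReal.pow_eq_one_of_factors (p := p) hN0 (g : Matrix (Fin n ⊕ Fin n) (Fin n ⊕ Fin n) F) hg
    (by rw [← SubmonoidClass.coe_pow, pow_orderOf_eq_one]; rfl) (hgc ▸ hf.factors)
  refine ⟨g, Nat.dvd_antisymm (orderOf_dvd_of_pow_eq_one (Subtype.ext (by
    rw [SubmonoidClass.coe_pow]; exact hA))) (hf.gen _ ?_), hgc⟩
  rw [← hgc]
  refine factors_charpoly (cast_ne_zero_of_coprime (p := p) hg) ?_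
  rw [← SubmonoidClass.coe_pow, pow_orderOf_eq_one]; rfl

end symp

section orth

variable {Q : QuadraticForm F (Unit ⊕ (Fin n ⊕ Fin n) → F)}

local notation "B" => QuadraticMap.polar (DFunLike.coe Q)
local notation "V" => (Unit ⊕ (Fin n ⊕ Fin n) → F)
local notation "mat" g:max => (Units.val (Subtype.val g) : Matrix (Unit ⊕ (Fin n ⊕ Fin n)) (Unit ⊕ (Fin n ⊕ Fin n)) F)

include hp in
theorem og_pal (hB : Nondeg Q) (h2 : (2 : F) ≠ 0) (hodd : Odd N) (hNp : N.Coprime p) {g : Grp Q}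
    (hg : orderOf g = N) : ∃ f, (mat g).charpoly = (X - 1) * f ∧ Pal n N f := by
  classical
  have hA : (mat g) ^ N = 1 := by
    rw [← Units.val_pow_eq_pow_val, ← SubmonoidClass.coe_pow, ← hg, pow_orderOf_eq_one]; rfl
  have hdim : Fintype.card (Unit ⊕ (Fin n ⊕ Fin n)) = 2 * n + 1 := by simp; ring
  obtain ⟨G, hG, hGg⟩ := exists_gram hB
  have hdet : (mat g).det = 1 := by
    have h1 := congrArg Matrix.det (hGg g)
    rw [Matrix.det_mul, Matrix.det_mul, Matrix.det_transpose] at h1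
    have hsq : (mat g).det ^ 2 = 1 := mul_left_cancel₀ hG.ne_zero (by linear_combination h1)
    have h3 := congrArg Matrix.det hA
    rw [Matrix.det_pow, Matrix.det_one] at h3
    obtain ⟨k, hk⟩ := hodd
    rwa [hk, pow_succ, pow_mul, hsq, one_pow, one_mul] at h3
  set χ := (mat g).charpoly
  have hm : χ.Monic := Matrix.charpoly_monic _
  have h0 : χ.coeff 0 = -1 := by
    have h := Matrix.det_eq_sign_charpoly_coeff (mat g)
    rw [hdet, hdim, (odd_two_mul_add_one n).neg_one_pow] at h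
    linear_combination h
  have ht : τ χ = χ := OrthPrimeReal.tw_charpoly Q hB g g.2
  obtain ⟨f, hf⟩ : X - 1 ∣ χ := by
    rw [← C_1, dvd_iff_isRoot]
    by_contra h1
    have := SympPrimeOrder.coeff_zero_eq_one hm (by rw [h0]; exact neg_ne_zero.2 one_ne_zero) ht h1
    exact h2 (by linear_combination -(h0.symm.trans this))
  have hfm : f.Monic := monic_X_sub_one.of_mul_monic_left (hf ▸ hm)
  have hfac := factors_charpoly (cast_ne_zero_of_coprime (p := p) hNp) hA
  refine ⟨f, hf, hfm, ?_, ?_, ?_, hfac.of_dvd ⟨X - 1, by rw [mul_comm]; exact hf⟩, fun m hm' => ?_⟩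
  · have hd := Matrix.charpoly_natDegree_eq_dim (mat g)
    rw [show (mat g).charpoly = (X - 1) * f from hf, monic_X_sub_one.natDegree_mul hfm, hdim,
      show (X - 1 : F[X]).natDegree = 1 by simpa using natDegree_X_sub_C (1 : F)] at hd
    omega
  · exact tw_cancel monic_X_sub_one.ne_zero SympPrimeOrder.tw_X_sub_one (hf ▸ ht)
  · rw [hf, mul_coeff_zero] at h0
    simp at h0
    linear_combination h0
  · rcases Nat.eq_zero_or_pos m with rfl | hm0
    · exact dvd_zero _
    rw [← hg]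
    refine orderOf_dvd_of_pow_eq_one (Subtype.ext (Units.ext ?_))
    rw [SubmonoidClass.coe_pow, Units.val_pow_eq_pow_val]
    refine OrthPrimeReal.pow_eq_one_of_factors (p := p) hm0 _ hNp hA ?_
    rw [show (mat g).charpoly = (X - 1) ^ 1 * f by rw [pow_one]; exact hf]
    exact (factors_X_sub_one_pow m 1).mul hm'

include hp in
/-- Realisation, with a fixed hyperbolic line and vector if `1` is a multiple root. -/
theorem og_exists (hB : Nondeg Q) (hQ : ⇑Q = Cfsg.quadFormOdd n F) (h2 : (2 : F) ≠ 0) (hodd : Odd N)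
    (hNp : N.Coprime p) {f : F[X]} (hf : Pal n N f) :
    ∃ g : Grp Q, orderOf g = N ∧ (mat g).charpoly = (X - 1) * f ∧
      (f.eval 1 = 0 → ∃ u v z : V, ap g u = u ∧ ap g v = v ∧ ap g z = z ∧ Q u = 0 ∧ Q v = 0 ∧
        B u v = 1 ∧ B u z = 0 ∧ B v z = 0 ∧ Q z ≠ 0) := by
  classical
  have hN0 : 0 < N := hodd.pos
  obtain ⟨e, h, hen, hfe, hm, hd, ht, h0, h1⟩ := hf.exists_split h2
  have hfac : Factors N h := hf.factors.of_dvd ⟨(X - 1) ^ (2 * e), by rw [hfe, mul_comm]⟩
  obtain ⟨Q₁, hQ₁, T, hT, hTN, hTc⟩ := OrthPrimeReal.real_self (p := p) hN0 hodd h hm hd h0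
    (SympPrimeOrder.tw_eq_reverse h0 ▸ ht) h1 hfac
  obtain ⟨R, hR, hRn⟩ := exists_quadForm_odd (F := F) h2 e
  have hnd : ∀ v, (∀ w, QuadraticMap.polar (Q₁.prod R) v w = 0) → v = 0 := fun v hv => by
    refine Prod.ext (hQ₁.1 v.1 fun w => ?_) (hRn v.2 fun w => ?_)
    · simpa [QuadraticMap.polar] using hv (w, 0)
    · simpa [QuadraticMap.polar] using hv (0, w)
  obtain ⟨l, hl, E, hE⟩ := OrthModels.classify_odd (Q₁.prod R)
    ⟨hnd, fun v hv => hnd v fun w => by rw [QuadraticMap.polar_comm]; exact hv w⟩ (m := n)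
    (by simp [Module.finrank_fintype_fun_eq_card]; omega)
  have hEQ : ∀ x, l * Q (E x) = Q₁ x.1 + R x.2 := fun x => by
    rw [hQ]; exact (hE x).trans (QuadraticMap.prod_apply _ _ _)
  set T' : Module.End F ((Fin (n - e) ⊕ Fin (n - e) → F) × (Unit ⊕ (Fin e ⊕ Fin e) → F)) :=
    LinearMap.prodMap T 1
  obtain ⟨g, hg⟩ := Orth.exists_iso hB (E.conj T') fun x => mul_left_cancel₀ hl (by
    obtain ⟨y, rfl⟩ := E.surjective x
    rw [LinearEquiv.conj_apply_apply, E.symm_apply_apply, hEQ, hEQ]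
    show Q₁ (T y.1) + R y.2 = _
    rw [hT])
  have hgm : mat g = LinearMap.toMatrix' (E.conj T') := Matrix.toLin'.injective (LinearMap.ext fun x => by
    rw [Matrix.toLin'_toMatrix']; exact hg x)
  have hχ : (mat g).charpoly = (X - 1) * f := by
    rw [hgm, ← Matrix.charpoly_toLin', Matrix.toLin'_toMatrix', LinearEquiv.charpoly_conj,
      LinearMap.charpoly_prodMap, hTc, LinearMap.charpoly_one, Module.finrank_fintype_fun_eq_card, hfe]
    simp only [Fintype.card_sum, Fintype.card_unit, Fintype.card_fin]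
    ring
  have hgN : (mat g) ^ N = 1 := by
    rw [hgm]
    refine Matrix.toLin'.injective ?_
    rw [Matrix.toLin'_pow, Matrix.toLin'_toMatrix', Matrix.toLin'_one]
    show (E.conjRingEquiv T') ^ N = 1
    rw [← map_pow, show T' ^ N = 1 by
      show (LinearMap.prodMapRingHom F _ _ (T, 1)) ^ N = 1
      rw [← map_pow, Prod.pow_mk, hTN, one_pow]
      exact map_one (LinearMap.prodMapRingHom F _ _), map_one]
  refine ⟨g, Nat.dvd_antisymm (orderOf_dvd_of_pow_eq_one (Subtype.ext (Units.ext (by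
    rw [SubmonoidClass.coe_pow, Units.val_pow_eq_pow_val, hgN]; rfl)))) (hf.gen _ ?_), hχ, fun he => ?_⟩
  · refine Factors.of_dvd (factors_charpoly ?_ (A := mat g) ?_) ⟨X - 1, by rw [hχ, mul_comm]⟩
    · refine cast_ne_zero_of_coprime (p := p) (Nat.Coprime.coprime_dvd_left (orderOf_dvd_of_pow_eq_one ?_) hNp)
      exact Subtype.ext (Units.ext (by rw [SubmonoidClass.coe_pow, Units.val_pow_eq_pow_val, hgN]; rfl))
    · rw [← Units.val_pow_eq_pow_val, ← SubmonoidClass.coe_pow, pow_orderOf_eq_one]; rfl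
  obtain ⟨e, rfl⟩ : ∃ e', e = e' + 1 := by
    rcases e with _ | e
    · rw [hfe, mul_zero, pow_zero, one_mul] at he
      exact absurd he h1
    · exact ⟨e, rfl⟩
  obtain ⟨r0, rhyp, rx, ry⟩ := std_facts hR
  have hfix : ∀ a : Unit ⊕ (Fin (e + 1) ⊕ Fin (e + 1)) → F, ap g (E (0, a)) = E (0, a) := fun a => by
    rw [hg, LinearEquiv.conj_apply_apply, E.symm_apply_apply]
    show E (T 0, a) = _
    rw [map_zero]
  have hq : ∀ a, Q (E (0, a)) = l⁻¹ * R a := fun a => by
    refine mul_left_cancel₀ hl ?_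
    rw [hEQ, QuadraticMap.map_zero, zero_add, ← mul_assoc, mul_inv_cancel₀ hl, one_mul]
  have hb : ∀ a b, B (E (0, a)) (E (0, b)) = l⁻¹ * QuadraticMap.polar (⇑R) a b := fun a b => by
    simp only [QuadraticMap.polar]
    rw [← map_add, Prod.mk_add_mk, add_zero, hq, hq, hq]
    ring
  refine ⟨E (0, ex F 0), l • E (0, ey F 0), E (0, e₀ F (e + 1)), hfix _, by rw [ap_smul, hfix], hfix _,
    ?_, ?_, ?_, ?_, ?_, ?_⟩
  · rw [hq, rhyp.qe, mul_zero]
  · rw [q_smul, hq, rhyp.qf, mul_zero, mul_zero]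
  · rw [b_smul_right, hb, rhyp.ef, if_pos rfl, mul_one, mul_inv_cancel₀ hl]
  · rw [hb, rx, mul_zero]
  · rw [b_smul_left, hb, ry, mul_zero, mul_zero]
  · rw [hq, r0, mul_one]; exact inv_ne_zero hl

end orth

end CfsgLib.PrimeGraphOdd
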