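import Cfsg.Agent.Lib.PrimeGraphOdd.Two

/-!
The prime graphs of `PΩ(2n+1,q)` and `PSp(2n,q)` coincide for odd `q`.
-/

set_option autoImplicit false
set_option linter.unusedSectionVars false

namespace CfsgLib.PrimeGraphOdd

open CfsgLib.Orth

variable {F : Type*} [Field F] [Fintype F]

theorem same_prime_graph (hodd : Odd (Fintype.card F)) (n : ℕ) (hn : 3 ≤ n) {r s : ℕ} (hr : r.Prime)
    (hs : s.Prime) (hrs : r ≠ s) :
    (r * s ∈ Set.range (orderOf : Cfsg.POmega F (Cfsg.quadFormOdd n F) → ℕ)) ↔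
      (r * s ∈ Set.range (orderOf : Cfsg.PSp n F → ℕ)) := by
  obtain ⟨p, hpc⟩ := CharP.exists F
  haveI := hpc
  haveI hp : Fact p.Prime := ⟨CharP.char_is_prime F p⟩
  have h2 : (2 : F) ≠ 0 := Ring.two_ne_zero fun h => by
    have := FiniteField.even_card_of_char_two (F := F) h
    exact Nat.not_odd_iff.mpr this hodd
  have hp2 : p ≠ 2 := by
    rintro rfl
    exact h2 (by exact_mod_cast CharP.cast_eq_zero F 2)
  obtain ⟨m, rfl⟩ : ∃ m, n = 1 + m := ⟨n - 1, by omega⟩
  have hm : 1 ≤ m := by omega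
  obtain ⟨Q, hQ, hB⟩ := exists_quadForm_odd (F := F) h2 (1 + m)
  rw [← hQ]
  -- normalise the order of the pair
  suffices H : ∀ a b : ℕ, a.Prime → b.Prime → a ≠ b → (a = 2 ∨ (b ≠ 2 ∧ a ≠ p)) →
      ((a * b ∈ Set.range (orderOf : Cfsg.POmega F ⇑Q → ℕ)) ↔
        (a * b ∈ Set.range (orderOf : Cfsg.PSp (1 + m) F → ℕ))) by
    by_cases h : r = 2 ∨ (s ≠ 2 ∧ r ≠ p)
    · exact H r s hr hs hrs h
    · rw [mul_comm r s]
      refine H s r hs hr hrs.symm ?_
      push Not at h
      by_cases hs2 : s = 2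
      · exact Or.inl hs2
      · exact Or.inr ⟨h.1, fun e => hrs ((h.2 hs2).trans e.symm)⟩
  intro a b ha hb hab hcase
  rcases hcase with rfl | ⟨hb2, hap⟩
  · by_cases hbp : b = p
    · subst hbp
      refine iff_of_true ((mem_range_iff hB h2 (by omega) _).2 ?_) (sp_two_p h2 hp2 hm)
      exact og_two_p hB hQ h2 hp2 (by omega)
    · rw [mem_range_iff hB h2 (by omega), og_two_iff (p := p) hB hQ h2 hodd hb (Ne.symm hab) hbp,
        sp_two_iff (p := p) h2 hodd hb (Ne.symm hab) hbp hm]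
  · by_cases ha2 : a = 2
    · subst ha2
      by_cases hbp : b = p
      · subst hbp
        refine iff_of_true ((mem_range_iff hB h2 (by omega) _).2 ?_) (sp_two_p h2 hp2 hm)
        exact og_two_p hB hQ h2 hp2 (by omega)
      · rw [mem_range_iff hB h2 (by omega), og_two_iff (p := p) hB hQ h2 hodd hb hb2 hbp,
          sp_two_iff (p := p) h2 hodd hb hb2 hbp hm]
    by_cases hbp : b = p
    · subst hbp
      rw [mem_range_iff hB h2 (by omega), og_p_iff hB hQ h2 ha ha2 hap hp2,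
        sp_p_iff ha ha2 hap hp2 hm h2]
    · exact odd_iff (p := p) hB hQ h2 (by omega) ((ha.odd_of_ne_two ha2).mul (hb.odd_of_ne_two hb2))
        (((Nat.coprime_primes ha hp.out).2 hap).mul_left ((Nat.coprime_primes hb hp.out).2 hbp))

end CfsgLib.PrimeGraphOdd
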