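import Cfsg.Agent.Lib.PrimeGraphOdd.Poly
import Cfsg.Agent.Lib.OddOrtho.Structure

/-!
Matrices of finite order with squarefree characteristic polynomial: commutant and adjoint.
-/

set_option autoImplicit false
set_option linter.unusedSectionVars false

namespace CfsgLib.PrimeGraphOdd

open Polynomial UniqueFactorizationMonoid
open scoped Matrix

variable {F : Type*} [Field F] [Fintype F] {ι : Type*} [Fintype ι] [DecidableEq ι]

local notation "q" => Fintype.card F

theorem squarefree_X_pow_sub_one {N : ℕ} (hN : (N : F) ≠ 0) : Squarefree (X ^ N - 1 : F[X]) :=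
  (X_pow_sub_one_separable_iff.2 hN).squarefree

theorem factors_charpoly {A : Matrix ι ι F} {N : ℕ} (hN : (N : F) ≠ 0) (hA : A ^ N = 1) :
    Factors N A.charpoly := by
  classical
  intro P hP hd
  refine (normalize_associated P).symm.dvd.trans ?_
  refine SympPrimeGraph.dvd_of_dvd_charpoly (f := Matrix.toLin' A) (squarefree_X_pow_sub_one hN) ?_
    ((normalize_associated P).symm.irreducible hP) (monic_normalize hP.ne_zero) ?_
  · rw [map_sub, map_pow, aeval_X, map_one, ← Matrix.toLin'_pow, hA, Matrix.toLin'_one]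
    exact sub_self _
  · rw [Matrix.charpoly_toLin']
    exact normalize_dvd_iff.2 hd

theorem aeval_toLin (A : Matrix ι ι F) (g : F[X]) :
    aeval (Matrix.toLin' A) g = Matrix.toLin' (aeval A g) :=
  (Polynomial.aeval_algHom_apply (Matrix.toLinAlgEquiv' : Matrix ι ι F ≃ₐ[F] _).toAlgHom A g)

theorem minpoly_eq {A : Matrix ι ι F} (hm : Squarefree (minpoly F A)) (hsq : Squarefree A.charpoly) :
    minpoly F A = A.charpoly := by
  classical
  have hne : A.charpoly ≠ 0 := (Matrix.charpoly_monic A).ne_zero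
  refine eq_of_monic_of_associated (minpoly.monic (Matrix.isIntegral A)) (Matrix.charpoly_monic A)
    (associated_of_dvd_dvd (Matrix.minpoly_dvd_charpoly A) ?_)
  rw [dvd_iff_normalizedFactors_le_normalizedFactors hne (minpoly.ne_zero (Matrix.isIntegral A)),
    Multiset.le_iff_subset ((squarefree_iff_nodup_normalizedFactors hne).1 hsq)]
  intro P hP
  obtain ⟨hPi, hPn, hPd⟩ := (mem_normalizedFactors_iff' hne).1 hP
  refine (mem_normalizedFactors_iff' (minpoly.ne_zero (Matrix.isIntegral A))).2 ⟨hPi, hPn, ?_⟩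
  have hPm : P.Monic := hPn ▸ monic_normalize hPi.ne_zero
  refine SympPrimeGraph.dvd_of_dvd_charpoly (f := Matrix.toLin' A) hm ?_ hPi hPm
    (by rw [Matrix.charpoly_toLin']; exact hPd)
  rw [aeval_toLin, minpoly.aeval, map_zero]

/-- A vector with the whole space as orbit. -/
theorem exists_orbit {A : Matrix ι ι F} {N : ℕ} (hN : (N : F) ≠ 0) (hA : A ^ N = 1)
    (hsq : Squarefree A.charpoly) :
    ∃ v : ι → F, (∀ w, ∃ g : F[X], w = aeval A g *ᵥ v) ∧
      ∀ g : F[X], aeval A g *ᵥ v = 0 → A.charpoly ∣ g := by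
  have hm : Squarefree (minpoly F A) :=
    (squarefree_X_pow_sub_one hN).squarefree_of_dvd (minpoly.dvd F A (by simp [hA]))
  obtain ⟨v, -, hv⟩ := OddOrtho.exists_cyclic A hm _ _ rfl (minpoly.monic (Matrix.isIntegral A)) dvd_rfl
  rw [minpoly_eq hm hsq] at hv
  refine ⟨v, fun w => ?_, hv⟩
  let L : (Fin (Fintype.card ι) → F) →ₗ[F] (ι → F) :=
    Fintype.linearCombination F fun i : Fin (Fintype.card ι) => (A ^ (i : ℕ)) *ᵥ v
  have hL : ∀ c, L c = aeval A (∑ i : Fin (Fintype.card ι), C (c i) * X ^ (i : ℕ)) *ᵥ v := fun c => by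
    rw [map_sum, Matrix.sum_mulVec, Fintype.linearCombination_apply]
    refine Finset.sum_congr rfl fun i _ => ?_
    rw [map_mul, aeval_C, map_pow, aeval_X, ← Algebra.smul_def, Matrix.smul_mulVec]
  have hinj : Function.Injective L := (injective_iff_map_eq_zero L).2 fun c hc => by
    rw [hL] at hc
    set g := ∑ i : Fin (Fintype.card ι), C (c i) * X ^ (i : ℕ)
    have hg : g.degree < (Fintype.card ι : ℕ) := degree_sum_fin_lt c
    have h0 : g = 0 := eq_zero_of_dvd_of_degree_lt (hv g hc) (by
      rwa [Matrix.charpoly_degree_eq_dim])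
    funext i
    have := congrArg (fun p : F[X] => p.coeff (i : ℕ)) h0
    simpa [g, finsetSum_coeff, coeff_X_pow, Fin.val_inj] using this
  obtain ⟨c, hc⟩ := (LinearMap.injective_iff_surjective_of_finrank_eq_finrank (by
    rw [Module.finrank_fin_fun, Module.finrank_pi])).1 hinj w
  exact ⟨_, hc.symm.trans (hL c)⟩

theorem commute_aeval {A Y : Matrix ι ι F} (hc : Commute Y A) (g : F[X]) : Commute Y (aeval A g) := by
  induction g using Polynomial.induction_on' with
  | add f g hf hg => rw [map_add]; exact hf.add_right hg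
  | monomial n a =>
    rw [aeval_monomial, ← Algebra.smul_def]
    exact (hc.pow_right n).smul_right a

/-- The commutant consists of polynomials. -/
theorem exists_aeval {A Y : Matrix ι ι F} {N : ℕ} (hN : (N : F) ≠ 0) (hA : A ^ N = 1)
    (hsq : Squarefree A.charpoly) (hc : Commute Y A) : ∃ g : F[X], Y = aeval A g := by
  obtain ⟨v, hv, -⟩ := exists_orbit hN hA hsq
  obtain ⟨g, hg⟩ := hv (Y *ᵥ v)
  refine ⟨g, Matrix.ext_of_mulVec_single fun i => ?_⟩
  obtain ⟨h, hh⟩ := hv (Pi.single i 1)
  rw [hh, Matrix.mulVec_mulVec, (commute_aeval hc h).eq, ← Matrix.mulVec_mulVec, hg, Matrix.mulVec_mulVec,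
    Matrix.mulVec_mulVec, ← map_mul, ← map_mul, mul_comm]

theorem aeval_pow_card (A : Matrix ι ι F) (g : F[X]) (j : ℕ) :
    aeval A g ^ q ^ j = aeval (A ^ q ^ j) g := by
  induction j with
  | zero => simp
  | succ j ih =>
    rw [pow_succ, pow_mul, ih, ← map_pow, ← FiniteField.expand_card, expand_aeval, ← pow_mul]

/-- The adjoint of a polynomial in an isometry. -/
theorem inv_aeval {A Y : GL ι F} {G : Matrix ι ι F} (hG : IsUnit G.det)
    (hA : (A : Matrix ι ι F).transpose * G * (A : Matrix ι ι F) = G)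
    (hY : (Y : Matrix ι ι F).transpose * G * (Y : Matrix ι ι F) = G) {g : F[X]}
    (e : (Y : Matrix ι ι F) = aeval (A : Matrix ι ι F) g) :
    ((Y⁻¹ : GL ι F) : Matrix ι ι F) = aeval ((A⁻¹ : GL ι F) : Matrix ι ι F) g := by
  have hs : ∀ {U : GL ι F}, (U : Matrix ι ι F).transpose * G * (U : Matrix ι ι F) = G →
      SemiconjBy G ((U⁻¹ : GL ι F) : Matrix ι ι F) (U : Matrix ι ι F).transpose := fun {U} hU => by
    show G * ((U⁻¹ : GL ι F) : Matrix ι ι F) = (U : Matrix ι ι F).transpose * G
    conv_lhs => rw [← hU]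
    rw [mul_assoc _ (U : Matrix ι ι F), Units.mul_inv, mul_one]
  have ht : ∀ h : F[X], SemiconjBy G (aeval ((A⁻¹ : GL ι F) : Matrix ι ι F) h)
      (aeval (A : Matrix ι ι F) h).transpose := fun h => by
    induction h using Polynomial.induction_on' with
    | add f g hf hg => rw [map_add, map_add, Matrix.transpose_add]; exact hf.add_right hg
    | monomial n a =>
      rw [aeval_monomial, aeval_monomial, ← Algebra.smul_def, ← Algebra.smul_def, Matrix.transpose_smul,
        Matrix.transpose_pow]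
      exact ((hs hA).pow_right n).smul_right a
  refine ((Matrix.isUnit_iff_isUnit_det G).2 hG).mul_left_cancel ?_
  rw [(hs hY).eq, (ht g).eq, e]

end CfsgLib.PrimeGraphOdd
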