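import Cfsg.Agent.Lib.SympPrimeGraph.Main

/-!
Self-reciprocal polynomials describing elements of a given odd order in `Sp(2n,q)` and `O(2n+1,q)`.
-/

set_option autoImplicit false
set_option linter.unusedSectionVars false

namespace CfsgLib.PrimeGraphOdd

open Polynomial CfsgLib.Classical CfsgLib.Classical.UnitaryTwistPoly CfsgLib.Classical.SympPrimeOrder

variable {F : Type*} [Field F]

local notation "τ" => tw (RingHom.id F)

/-- All irreducible factors divide `X ^ m - 1`. -/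
def Factors (m : ℕ) (f : F[X]) : Prop := ∀ P : F[X], Irreducible P → P ∣ f → P ∣ X ^ m - 1

/-- Characteristic polynomial of an element of order `N` of `Sp(2n,F)`, `N` prime to the characteristic. -/
structure Pal (n N : ℕ) (f : F[X]) : Prop where
  monic : f.Monic
  deg : f.natDegree = 2 * n
  fixed : τ f = f
  const : f.coeff 0 = 1
  factors : Factors N f
  gen : ∀ m, Factors m f → N ∣ m

/-- There is an element of order `r` in dimension `2n`. -/
def Crit (F : Type*) [Field F] (n r : ℕ) : Prop := ∃ f : F[X], Pal n r f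

theorem monic_X_sub_one : (X - 1 : F[X]).Monic := by simpa using monic_X_sub_C (1 : F)

theorem irreducible_X_sub_one : Irreducible (X - 1 : F[X]) := by simpa using irreducible_X_sub_C (1 : F)

theorem tw_pow_X_sub_one (c : ℕ) : τ ((X - 1 : F[X]) ^ c) = (X - 1) ^ c := by
  induction c with
  | zero => rw [pow_zero, SympPrimeOrder.tw_one]
  | succ c ih => rw [pow_succ, tw_mul, ih, tw_X_sub_one]

theorem coeff_zero_X_sub_one_pow (c : ℕ) : ((X - 1 : F[X]) ^ c).coeff 0 = (-1) ^ c := by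
  simp [coeff_zero_eq_eval_zero]

theorem Factors.of_dvd {m : ℕ} {f g : F[X]} (h : Factors m f) (hg : g ∣ f) : Factors m g :=
  fun P hP hd => h P hP (hd.trans hg)

theorem Factors.mul {m : ℕ} {f g : F[X]} (hf : Factors m f) (hg : Factors m g) : Factors m (f * g) :=
  fun P hP hd => (hP.prime.dvd_or_dvd hd).elim (hf P hP) (hg P hP)

theorem factors_X_sub_one_pow (m c : ℕ) : Factors (F := F) m ((X - 1) ^ c) := fun P hP hd =>
  (hP.prime.dvd_of_dvd_pow hd).trans (by simpa using sub_dvd_pow_sub_pow (X : F[X]) 1 m)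

theorem factors_zero (f : F[X]) : Factors 0 f := fun P _ _ => by simp

theorem eq_of_dvd_X_sub_one {P : F[X]} (hP : Irreducible P) (hd : P ∣ X - 1) : X - 1 ∣ P :=
  (hP.associated_of_dvd irreducible_X_sub_one hd).symm.dvd

theorem not_dvd_X_sub_one {P f : F[X]} (hP : Irreducible P) (hd : P ∣ f) (h1 : f.eval 1 ≠ 0) :
    ¬ P ∣ X - 1 := fun h => h1 (by
  have := (eq_of_dvd_X_sub_one hP h).trans hd
  rwa [← C_1, dvd_iff_isRoot] at this)

theorem tw_cancel {w R : F[X]} (hw : w ≠ 0) (hwt : τ w = w) (h : τ (w * R) = w * R) : τ R = R := by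
  rw [tw_mul, hwt] at h
  exact mul_left_cancel₀ hw h

namespace Pal

variable {n N : ℕ} {f : F[X]}

theorem rev (h : Pal n N f) : f.reverse = f := tw_eq_reverse h.const ▸ h.fixed

theorem eval_neg_one (h2 : (2 : F) ≠ 0) (hN : Odd N) (h : Pal n N f) : f.eval (-1) ≠ 0 := fun h0 => by
  have hd : (X - C (-1 : F)) ∣ f := dvd_iff_isRoot.2 h0
  have h1 := h.factors _ (irreducible_X_sub_C _) hd
  rw [dvd_iff_isRoot, IsRoot, eval_sub, eval_pow, eval_X, eval_one, hN.neg_one_pow] at h1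
  exact h2 (by linear_combination -h1)

theorem exists_split (h2 : (2 : F) ≠ 0) (h : Pal n N f) :
    ∃ e g, e ≤ n ∧ f = (X - 1) ^ (2 * e) * g ∧ g.Monic ∧ g.natDegree = 2 * (n - e) ∧ τ g = g ∧
      g.coeff 0 = 1 ∧ g.eval 1 ≠ 0 := by
  obtain ⟨g, hg, hnd⟩ := exists_eq_pow_rootMultiplicity_mul_and_not_dvd f h.monic.ne_zero (1 : F)
  set c := f.rootMultiplicity 1
  rw [map_one] at hg hnd
  have h1 : g.eval 1 ≠ 0 := fun e => hnd (by rw [← C_1, dvd_iff_isRoot]; exact e)
  have hm : g.Monic := (monic_X_sub_one.pow c).of_mul_monic_left (hg ▸ h.monic)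
  have ht : τ g = g := tw_cancel (monic_X_sub_one.pow c).ne_zero (tw_pow_X_sub_one c) (hg ▸ h.fixed)
  have hc : (-1 : F) ^ c * g.coeff 0 = 1 := by
    rw [← coeff_zero_X_sub_one_pow, ← mul_coeff_zero, ← hg, h.const]
  have h0 : g.coeff 0 ≠ 0 := fun e => by rw [e, mul_zero] at hc; exact zero_ne_one hc
  have hg0 := coeff_zero_eq_one hm h0 ht h1
  rw [hg0, mul_one] at hc
  obtain ⟨e, he⟩ : Even c := by
    by_contra ho
    rw [(Nat.not_even_iff_odd.1 ho).neg_one_pow] at hc
    exact h2 (by linear_combination -hc)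
  have hd := congrArg natDegree hg
  rw [h.deg, (monic_X_sub_one.pow c).natDegree_mul hm, natDegree_pow,
    show (X - 1 : F[X]).natDegree = 1 by simpa using natDegree_X_sub_C (1 : F), mul_one] at hd
  exact ⟨e, g, by omega, by rw [two_mul, ← he]; exact hg, hm, by omega, ht, hg0, h1⟩

end Pal

section prime

variable {r : ℕ}

theorem aeval_root_of_dvd {P g : F[X]} (hd : P ∣ g) : aeval (AdjoinRoot.root P) g = 0 := by
  rw [AdjoinRoot.aeval_eq, AdjoinRoot.mk_eq_zero]; exact hd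

theorem dvd_of_aeval_root {P g : F[X]} (h : aeval (AdjoinRoot.root P) g = 0) : P ∣ g := by
  rwa [AdjoinRoot.aeval_eq, AdjoinRoot.mk_eq_zero] at h

theorem root_ne_one {P : F[X]} (hP : ¬ P ∣ X - 1) : AdjoinRoot.root P ≠ 1 := fun h =>
  hP (dvd_of_aeval_root (by rw [map_sub, aeval_X, map_one, h, sub_self]))

theorem dvd_of_root_pow (hr : r.Prime) {P : F[X]} (hP : Irreducible P) (hPr : P ∣ X ^ r - 1)
    (hP1 : ¬ P ∣ X - 1) {m : ℕ} (hm : AdjoinRoot.root P ^ m = 1) : r ∣ m := by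
  haveI := Fact.mk hP
  haveI := Fact.mk hr
  have h1 : AdjoinRoot.root P ^ r = 1 := by
    have := aeval_root_of_dvd hPr
    rwa [map_sub, map_pow, aeval_X, map_one, sub_eq_zero] at this
  rw [← orderOf_eq_prime h1 (root_ne_one hP1)]
  exact orderOf_dvd_of_pow_eq_one hm

theorem gen_of_factor (hr : r.Prime) {f P : F[X]} (hf : Factors r f) (hP : Irreducible P) (hPf : P ∣ f)
    (hP1 : ¬ P ∣ X - 1) (m : ℕ) (hm : Factors m f) : r ∣ m := by
  refine dvd_of_root_pow hr hP (hf P hP hPf) hP1 ?_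
  have := aeval_root_of_dvd (hm P hP hPf)
  rwa [map_sub, map_pow, aeval_X, map_one, sub_eq_zero] at this

theorem Pal.exists_factor {n : ℕ} {f : F[X]} (hr : r.Prime) (h : Pal n r f) :
    ∃ P, Irreducible P ∧ P.Monic ∧ P ∣ f ∧ ¬ P ∣ X - 1 := by
  classical
  by_contra hno
  push Not at hno
  refine hr.ne_one (Nat.dvd_one.1 (h.gen 1 fun P hP hd => ?_))
  rw [pow_one]
  exact (normalize_associated P).symm.dvd.trans (hno _ ((normalize_associated P).symm.irreducible hP)
    (monic_normalize hP.ne_zero) (normalize_dvd_iff.2 hd))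

theorem irreducible_tw {P : F[X]} (hP : Irreducible P) (hm : P.Monic) (h0 : P.coeff 0 ≠ 0) :
    Irreducible (τ P) := by
  have hu : ¬ IsUnit (τ P) := fun h => by
    have := natDegree_eq_zero_of_isUnit h
    rw [natDegree_tw _ h0] at this
    exact hP.natDegree_pos.ne' this
  obtain ⟨Q, hQm, hQ, hQd⟩ := exists_monic_irreducible_factor _ hu
  have hQ0 : Q.coeff 0 ≠ 0 := coeff_zero_ne_of_dvd hQd (by
    rw [coeff_zero_tw _ hm h0]; exact inv_ne_zero (by simpa using h0))
  have h := tw_dvd (RingHom.id F) hQd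
  rw [tw_tw _ (fun _ => rfl) hm h0] at h
  have hu2 : ¬ IsUnit (τ Q) := fun h => by
    have := natDegree_eq_zero_of_isUnit h
    rw [natDegree_tw _ hQ0] at this
    exact hQ.natDegree_pos.ne' this
  have hass : Associated P (τ Q) :=
    associated_of_dvd_dvd (by
      obtain ⟨c, hc⟩ := h
      rcases hP.isUnit_or_isUnit hc with h1 | h1
      · exact absurd h1 hu2
      · exact (Associated.symm ⟨h1.unit, hc.symm⟩).dvd) h
  have hdeg := natDegree_eq_of_degree_eq (degree_eq_degree_of_associated hass)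
  rw [natDegree_tw _ hQ0] at hdeg
  rwa [← eq_of_monic_of_dvd_of_natDegree_le hQm (monic_tw _ h0) hQd (by rw [natDegree_tw _ h0, hdeg])] at hQ

/-- Shrinking a self-reciprocal block to the root `1`. -/
theorem crit_of_replace (hr : r.Prime) {n j : ℕ} {f w R P : F[X]}
    (h : Pal n r f) (hwm : w.Monic) (hwd : w.natDegree = 2 * j) (hj : 1 ≤ j) (hwt : τ w = w)
    (hw0 : w.coeff 0 = 1) (hf : f = w * R) (hP : Irreducible P) (hPR : P ∣ R) (hP1 : ¬ P ∣ X - 1) :
    Crit F (n - 1) r := by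
  have hRm : R.Monic := hwm.of_mul_monic_left (hf ▸ h.monic)
  have hd := congrArg natDegree hf
  rw [h.deg, hwm.natDegree_mul hRm, hwd] at hd
  have hR0 : R.coeff 0 = 1 := by
    have := h.const
    rw [hf, mul_coeff_zero, hw0, one_mul] at this
    exact this
  refine ⟨(X - 1) ^ (2 * (j - 1)) * R, (monic_X_sub_one.pow _).mul hRm, ?_, ?_, ?_, ?_, ?_⟩
  · rw [(monic_X_sub_one.pow _).natDegree_mul hRm, natDegree_pow,
      show (X - 1 : F[X]).natDegree = 1 by simpa using natDegree_X_sub_C (1 : F), mul_one]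
    omega
  · rw [tw_mul, tw_pow_X_sub_one, tw_cancel hwm.ne_zero hwt (hf ▸ h.fixed)]
  · rw [mul_coeff_zero, coeff_zero_X_sub_one_pow, hR0, (even_two_mul _).neg_one_pow, one_mul]
  · exact (factors_X_sub_one_pow r _).mul (h.factors.of_dvd ⟨w, by rw [hf, mul_comm]⟩)
  · exact gen_of_factor hr ((factors_X_sub_one_pow r _).mul (h.factors.of_dvd ⟨w, by rw [hf, mul_comm]⟩))
      hP (hPR.mul_left _) hP1

/-- Without a smaller witness the polynomial is irreducible or a pair of dual irreducibles. -/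
theorem shape (h2 : (2 : F) ≠ 0) (hr : r.Prime) (hodd : Odd r) {n : ℕ} {f : F[X]} (h : Pal n r f)
    (hc : ¬ Crit F (n - 1) r) :
    f.eval 1 ≠ 0 ∧ ∃ P, Irreducible P ∧ P.Monic ∧ ¬ P ∣ X - 1 ∧ P ∣ X ^ r - 1 ∧
      ((f = P ∧ P.natDegree = 2 * n) ∨
        (Irreducible (τ P) ∧ τ P ≠ P ∧ f = P * τ P ∧ P.natDegree = n)) := by
  obtain ⟨P, hP, hPm, hPf, hP1⟩ := h.exists_factor hr
  have h1 : f.eval 1 ≠ 0 := by
    obtain ⟨e, g, -, hg, -, -, -, -, hg1⟩ := h.exists_split h2
    intro he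
    obtain ⟨e, rfl⟩ : ∃ e', e = e' + 1 := by
      rcases e with _ | e
      · rw [hg, mul_zero, pow_zero, one_mul] at he
        exact absurd he hg1
      · exact ⟨e, rfl⟩
    refine hc (crit_of_replace hr h (w := (X - 1) ^ 2) (R := (X - 1) ^ (2 * e) * g) (j := 1)
      (monic_X_sub_one.pow 2) (by
        rw [natDegree_pow, show (X - 1 : F[X]).natDegree = 1 by simpa using natDegree_X_sub_C (1 : F)])
      le_rfl (tw_pow_X_sub_one 2) (by rw [coeff_zero_X_sub_one_pow]; norm_num) (by rw [hg]; ring) hP ?_ hP1)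
    rw [hg, show 2 * (e + 1) = 2 + 2 * e by ring, pow_add, mul_assoc] at hPf
    exact (hP.prime.dvd_or_dvd hPf).resolve_left fun hd => hP1 (hP.prime.dvd_of_dvd_pow hd)
  refine ⟨h1, P, hP, hPm, hP1, h.factors P hP hPf, ?_⟩
  have hP0 : P.coeff 0 ≠ 0 := coeff_zero_ne_of_dvd hPf (by rw [h.const]; exact one_ne_zero)
  have hone : ∀ (w R : F[X]) (j : ℕ), w.Monic → w.natDegree = 2 * j → 1 ≤ j → τ w = w → w.coeff 0 = 1 →
      f = w * R → R = 1 := by
    intro w R j hwm hwd hj hwt hw0 hf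
    have hRm : R.Monic := hwm.of_mul_monic_left (hf ▸ h.monic)
    by_contra hR
    obtain ⟨S, hSm, hS, hSR⟩ := exists_monic_irreducible_factor R fun hu => hR (hRm.eq_one_of_isUnit hu)
    exact hc (crit_of_replace hr h hwm hwd hj hwt hw0 hf hS hSR
      (not_dvd_X_sub_one hS (hSR.trans ⟨w, by rw [hf, mul_comm]⟩) h1))
  by_cases ht : τ P = P
  · have hPe : P.eval 1 ≠ 0 := fun e => h1 (eval_eq_zero_of_dvd_of_eval_eq_zero hPf e)
    have hc0 := coeff_zero_eq_one hPm hP0 ht hPe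
    obtain ⟨j, hj⟩ : Even P.natDegree := by
      by_contra ho
      refine h.eval_neg_one h2 hodd (eval_eq_zero_of_dvd_of_eval_eq_zero hPf ?_)
      exact SympPrimeGraph.eval_neg_one_of_palindromic (tw_eq_reverse hc0 ▸ ht) (Nat.not_even_iff_odd.1 ho)
    have hj0 : 1 ≤ j := by have := hP.natDegree_pos; omega
    obtain ⟨R, hR⟩ := hPf
    have hR1 := hone P R j hPm (by omega) hj0 ht hc0 hR
    subst hR1
    rw [mul_one] at hR
    exact Or.inl ⟨hR, by rw [← hR, h.deg]⟩
  · have hi := irreducible_tw hP hPm hP0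
    have hd : τ P ∣ f := by
      have := tw_dvd (RingHom.id F) hPf
      rwa [h.fixed] at this
    have hcop : IsCoprime P (τ P) := hP.coprime_iff_not_dvd.2 fun hd' =>
      ht (eq_of_monic_of_associated (monic_tw _ hP0) hPm (hP.associated_of_dvd hi hd').symm)
    obtain ⟨R, hR⟩ := hcop.mul_dvd hPf hd
    have hwd : (P * τ P).natDegree = 2 * P.natDegree := by
      rw [hPm.natDegree_mul (monic_tw _ hP0), natDegree_tw _ hP0, two_mul]
    have hR1 := hone (P * τ P) R P.natDegree (hPm.mul (monic_tw _ hP0)) hwd hP.natDegree_pos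
      (by rw [tw_mul, tw_tw _ (fun _ => rfl) hPm hP0, mul_comm])
      (by rw [mul_coeff_zero, coeff_zero_tw _ hPm hP0, RingHom.id_apply, mul_inv_cancel₀ hP0]) hR
    subst hR1
    rw [mul_one] at hR
    refine Or.inr ⟨hi, ht, hR, ?_⟩
    have := h.deg
    rw [hR, hwd] at this
    omega

theorem shape_squarefree (h2 : (2 : F) ≠ 0) (hr : r.Prime) (hodd : Odd r) {n : ℕ} {f : F[X]}
    (h : Pal n r f) (hc : ¬ Crit F (n - 1) r) : Squarefree ((X - 1) * f) := by
  obtain ⟨h1, P, hP, hPm, -, -, hcase⟩ := shape h2 hr hodd h hc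
  have hco : IsRelPrime (X - 1) f := (irreducible_X_sub_one.coprime_iff_not_dvd.2 fun hd => h1 (by
    rwa [← C_1, dvd_iff_isRoot] at hd)).isRelPrime
  refine (squarefree_mul_iff).2 ⟨hco, irreducible_X_sub_one.squarefree, ?_⟩
  rcases hcase with ⟨rfl, -⟩ | ⟨hi, ht, rfl, -⟩
  · exact hP.squarefree
  · refine (squarefree_mul_iff).2 ⟨(hP.coprime_iff_not_dvd.2 fun hd' => ht ?_).isRelPrime, hP.squarefree,
      hi.squarefree⟩
    refine eq_of_monic_of_associated (monic_tw _ ?_) hPm (hP.associated_of_dvd hi hd').symm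
    exact coeff_zero_ne_of_dvd (dvd_mul_right P (τ P)) (by rw [h.const]; exact one_ne_zero)

/-- The prime divides `q^n - 1` or `q^n + 1`. -/
theorem shape_dvd [Fintype F] (h2 : (2 : F) ≠ 0) (hr : r.Prime) (hodd : Odd r) {n : ℕ} {f : F[X]}
    (h : Pal n r f) (hc : ¬ Crit F (n - 1) r) :
    r ∣ Fintype.card F ^ n - 1 ∨ r ∣ Fintype.card F ^ n + 1 := by
  obtain ⟨-, P, hP, hPm, hP1, hPr, hcase⟩ := shape h2 hr hodd h hc
  haveI := Fact.mk hP
  have hfin : Module.Finite F (AdjoinRoot P) := hPm.finite_adjoinRoot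
  haveI : Finite (AdjoinRoot P) := Module.finite_of_finite F
  haveI := Fintype.ofFinite (AdjoinRoot P)
  have hcard : Fintype.card (AdjoinRoot P) = Fintype.card F ^ P.natDegree := by
    rw [Module.card_eq_pow_finrank (K := F), (AdjoinRoot.powerBasis hP.ne_zero).finrank,
      AdjoinRoot.powerBasis_dim]
  have hne : AdjoinRoot.root P ≠ 0 := fun e => by
    have := aeval_root_of_dvd hPr
    rw [map_sub, map_pow, aeval_X, map_one, e, zero_pow hr.ne_zero, zero_sub, neg_eq_zero] at this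
    exact one_ne_zero this
  have hd : r ∣ Fintype.card F ^ P.natDegree - 1 := by
    refine dvd_of_root_pow hr hP hPr hP1 ?_
    rw [← hcard]
    exact FiniteField.pow_card_sub_one_eq_one _ hne
  rcases hcase with ⟨-, hd2⟩ | ⟨-, -, -, hd2⟩
  · rw [hd2] at hd
    have e : Fintype.card F ^ (2 * n) - 1 = (Fintype.card F ^ n + 1) * (Fintype.card F ^ n - 1) := by
      rw [← Nat.sq_sub_sq, one_pow, ← pow_mul, mul_comm]
    rw [e] at hd
    exact (hr.dvd_mul.1 hd).symm
  · exact Or.inl (hd2 ▸ hd)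

/-- An involutory class function of a polynomial fixed by inversion is a sign. -/
theorem shape_sign (h2 : (2 : F) ≠ 0) (hr : r.Prime) (hodd : Odd r) {n : ℕ} {f : F[X]} (h : Pal n r f)
    (hc : ¬ Crit F (n - 1) r) (g : F[X]) (hsq : f ∣ g ^ 2 - 1) (hinv : f ∣ g.comp (X ^ (r - 1)) - g) :
    ∃ a : F, (a = 1 ∨ a = -1) ∧ f ∣ g - C a := by
  obtain ⟨-, P, hP, hPm, -, hPr, hcase⟩ := shape h2 hr hodd h hc
  have hPf : P ∣ f := by
    rcases hcase with ⟨rfl, -⟩ | ⟨-, -, rfl, -⟩
    · exact dvd_rfl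
    · exact dvd_mul_right _ _
  have hP2 : P ∣ (g - 1) * (g + 1) := by
    refine hPf.trans ?_
    rwa [show (g - 1) * (g + 1) = g ^ 2 - 1 by ring]
  obtain ⟨a, ha, hPa⟩ : ∃ a : F, (a = 1 ∨ a = -1) ∧ P ∣ g - C a := by
    rcases hP.prime.dvd_or_dvd hP2 with hd | hd
    · exact ⟨1, Or.inl rfl, by simpa using hd⟩
    · exact ⟨-1, Or.inr rfl, by simpa using hd⟩
  refine ⟨a, ha, ?_⟩
  rcases hcase with ⟨rfl, -⟩ | ⟨hi, ht, hf, -⟩
  · exact hPa
  have hP0 : P.coeff 0 ≠ 0 := coeff_zero_ne_of_dvd hPf (by rw [h.const]; exact one_ne_zero)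
  have hcop : IsCoprime P (τ P) := hP.coprime_iff_not_dvd.2 fun hd' =>
      ht (eq_of_monic_of_associated (monic_tw _ hP0) hPm (hP.associated_of_dvd hi hd').symm)
  rw [hf]
  refine hcop.mul_dvd hPa ?_
  have hPc : P ∣ g.comp (X ^ (r - 1)) - C a := by
    have h' := dvd_add (hPf.trans hinv) hPa
    rwa [sub_add_sub_cancel] at h'
  haveI := Fact.mk hi
  set μ := AdjoinRoot.root (τ P)
  have hμr : μ ^ r = 1 := by
    have hfd : τ P ∣ f := by rw [hf]; exact dvd_mul_left _ _
    have := aeval_root_of_dvd (h.factors _ hi hfd)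
    rwa [map_sub, map_pow, aeval_X, map_one, sub_eq_zero] at this
  have hμ0 : μ ≠ 0 := fun e => by rw [e, zero_pow hr.ne_zero] at hμr; exact zero_ne_one hμr
  have hinvP : aeval μ⁻¹ P = 0 := by
    haveI := invertibleOfNonzero (inv_ne_zero hμ0)
    have htw : τ P = C (P.coeff 0)⁻¹ * P.reverse := by simp [tw]
    have h1 : aeval μ (C (P.coeff 0)⁻¹ * P.reverse) = 0 := by
      rw [← htw]; exact aeval_root_of_dvd (dvd_refl (τ P))
    rw [map_mul, aeval_C, mul_eq_zero] at h1
    have hrev := h1.resolve_left ((_root_.map_ne_zero _).2 (inv_ne_zero hP0))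
    rw [aeval_def] at hrev ⊢
    refine (eval₂_reverse_eq_zero_iff (algebraMap F (AdjoinRoot (τ P))) μ⁻¹ P).1 ?_
    rwa [invOf_eq_inv, inv_inv]
  obtain ⟨c, hc'⟩ := hPc
  have he := congrArg (aeval μ⁻¹) hc'
  rw [map_mul, hinvP, zero_mul, map_sub, aeval_comp, map_pow, aeval_X, aeval_C,
    show μ⁻¹ ^ (r - 1) = μ by
      rw [inv_pow]
      refine inv_eq_of_mul_eq_one_right ?_
      rw [← pow_succ, show r - 1 + 1 = r by have := hr.pos; omega, hμr]] at he
  exact dvd_of_aeval_root (by rw [map_sub, aeval_C]; exact he)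

end prime

end CfsgLib.PrimeGraphOdd
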