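import Cfsg.Agent.Lib.PrimeGraphOdd.TwoTools

/-!
Adjacency of `2` with an odd prime different from the characteristic.
-/

set_option autoImplicit false
set_option linter.unusedSectionVars false
set_option maxHeartbeats 800000

namespace CfsgLib.PrimeGraphOdd

open Polynomial CfsgLib.Classical CfsgLib.Classical.SympTrans CfsgLib.Orth
open scoped Matrix

universe u

variable {F : Type u} [Field F] [Fintype F] {p : ℕ} [hp : Fact p.Prime] [CharP F p] {n m r : ℕ}

local notation "qF" => Fintype.card F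

/-- The torus criterion for `2` and `r`. -/
def C4 (F : Type*) [Fintype F] (n r : ℕ) : Prop :=
  (r ∣ Fintype.card F ^ n - 1 ∧ 4 ∣ Fintype.card F ^ n - 1) ∨
    (r ∣ Fintype.card F ^ n + 1 ∧ 4 ∣ Fintype.card F ^ n + 1)

theorem neg_one_pow_smul {ι : Type*} [Fintype ι] [DecidableEq ι] [Nonempty ι] {Y : Matrix ι ι F}
    (hY : Y * Y = -1) (h2 : (2 : F) ≠ 0) {j : ℕ} {s : F} (hs : s = 1 ∨ s = -1)
    (h : ((-1 : F) ^ j) • Y = s • Y) : (-1 : F) ^ j = s := by
  have h1 := congrArg (· * Y) h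
  simp only [Matrix.smul_mul, hY] at h1
  obtain ⟨i⟩ := ‹Nonempty ι›
  have h3 := congrFun (congrFun h1 i) i
  simpa using h3

theorem pow_odd_of_sq {ι : Type*} [Fintype ι] [DecidableEq ι] {Y : Matrix ι ι F} (hY : Y * Y = -1) (j : ℕ) :
    Y ^ (2 * j + 1) = ((-1 : F) ^ j) • Y := by
  induction j with
  | zero => simp
  | succ j ih =>
    rw [show 2 * (j + 1) + 1 = 2 * j + 1 + 2 by ring, pow_add, ih, pow_two, Matrix.smul_mul, ← mul_assoc,
      mul_assoc Y, hY, mul_neg, mul_one, smul_neg, pow_succ, mul_neg, mul_one, neg_smul]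

/-- A polynomial in a torus element squaring to `-1`. -/
theorem four_dvd {ι : Type*} [Fintype ι] [DecidableEq ι] [Nonempty ι] (h2 : (2 : F) ≠ 0)
    (hodd : Odd qF) (hr : 0 < r) {A Y : Matrix ι ι F} {g : F[X]} (hA : A ^ r = 1) (hY : Y = aeval A g)
    (hY2 : Y * Y = -1) (hinv : aeval (A ^ (r - 1)) g = -Y) {M : ℕ}
    (hM : (M = qF ^ n - 1 ∨ M = qF ^ n + 1)) (hd : r ∣ M) : 4 ∣ M := by
  obtain ⟨j, hj⟩ := hodd.pow (n := n)
  obtain ⟨k, hk⟩ := hd
  have hpow : Y ^ qF ^ n = aeval (A ^ qF ^ n) g := by rw [hY, aeval_pow_card]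
  have hne : (-1 : F) ≠ 1 := fun e => h2 (by linear_combination -e)
  rcases hM with hM | hM
  · have hAq : A ^ qF ^ n = A := by
      rw [show qF ^ n = r * k + 1 by omega, pow_succ, pow_mul, hA, one_pow, one_mul]
    rw [hAq, ← hY, hj, pow_odd_of_sq hY2] at hpow
    have h1 := neg_one_pow_smul hY2 h2 (Or.inl rfl) (hpow.trans (one_smul F Y).symm)
    obtain ⟨l, rfl⟩ : Even j := by
      by_contra ho
      rw [(Nat.not_even_iff_odd.1 ho).neg_one_pow] at h1
      exact hne h1
    exact ⟨l, by omega⟩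
  · have hAq : A ^ qF ^ n = A ^ (r - 1) := by
      have h : A ^ qF ^ n * A ^ r = A ^ (r - 1) := by
        rw [← pow_add, show qF ^ n + r = r * k + (r - 1) by omega, pow_add, pow_mul, hA, one_pow, one_mul]
      rwa [hA, mul_one] at h
    rw [hAq, hinv, hj, pow_odd_of_sq hY2] at hpow
    have h1 := neg_one_pow_smul hY2 h2 (Or.inr rfl) (hpow.trans (neg_one_smul F Y).symm)
    obtain ⟨l, rfl⟩ : Odd j := by
      by_contra ho
      rw [(Nat.not_odd_iff_even.1 ho).neg_one_pow] at h1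
      exact hne h1.symm
    exact ⟨l + 1, by omega⟩

section symp

local notation "smat" g:max => (Subtype.val g : Matrix (Fin (1 + m) ⊕ Fin (1 + m)) (Fin (1 + m) ⊕ Fin (1 + m)) F)

include hp in
theorem sp_two_iff (h2 : (2 : F) ≠ 0) (hq : Odd qF) (hr : r.Prime) (hr2 : r ≠ 2) (hrp : r ≠ p) (hm : 1 ≤ m) :
    2 * r ∈ Set.range (orderOf : Cfsg.PSp (1 + m) F → ℕ) ↔ Crit F m r ∨ C4 F (1 + m) r := by
  have hodd : Odd r := hr.odd_of_ne_two hr2
  have hrp' : r.Coprime p := (Nat.coprime_primes hr hp.out).2 hrp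
  constructor
  · rintro ⟨y₀, hy₀⟩
    refine or_iff_not_imp_left.2 fun hc => ?_
    obtain ⟨g, rfl⟩ := QuotientGroup.mk_surjective y₀
    have hmem : g ^ (2 * r) ∈ Subgroup.center (Matrix.symplecticGroup (Fin (1 + m)) F) := by
      rw [← QuotientGroup.eq_one_iff, QuotientGroup.mk_pow, ← hy₀, pow_orderOf_eq_one]
    have h4 : (g ^ 4) ^ r = 1 := by
      rw [← pow_mul, show 4 * r = 2 * r + 2 * r by ring, pow_add, SympPrimeGraph.center_sq hmem]
    have hnd : ∀ d : ℕ, g ^ d ∈ Subgroup.center (Matrix.symplecticGroup (Fin (1 + m)) F) → 2 * r ∣ d :=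
      fun d hd => by
        rw [← hy₀]
        refine orderOf_dvd_of_pow_eq_one ?_
        rw [← QuotientGroup.mk_pow]
        exact (QuotientGroup.eq_one_iff _).2 hd
    haveI := Fact.mk hr
    have hx : orderOf (g ^ 4) = r := orderOf_eq_prime h4 fun e => by
      have := Nat.le_of_dvd (by norm_num) (hnd 4 (e ▸ one_mem _))
      have := hodd.pos
      have h3 : 3 ≤ r := lt_of_le_of_ne hr.two_le (Ne.symm hr2)
      omega
    have hy : g ^ r ∉ Subgroup.center (Matrix.symplecticGroup (Fin (1 + m)) F) := fun h => by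
      have := Nat.le_of_dvd hr.pos (hnd r h)
      have := hr.pos
      omega
    have hpal := sp_pal (p := p) hr.pos hrp' hx
    have hc' : ¬ Crit F (1 + m - 1) r := by rwa [Nat.add_sub_cancel_left]
    have hsq := (shape_squarefree h2 hr hodd hpal hc').of_mul_right
    set A := smat (g ^ 4) with hA
    set Y := smat (g ^ r) with hYdef
    have hAr : A ^ r = 1 := by rw [hA, ← SubmonoidClass.coe_pow _ r, h4]; rfl
    obtain ⟨h, hh⟩ := exists_aeval (cast_ne_zero_of_coprime (p := p) hrp') hAr hsq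
      (show Commute Y A from congrArg Subtype.val ((Commute.refl g).pow_pow r 4).eq)
    obtain ⟨c, hc2⟩ := (FormRep.Symplectic.center_iff _).1 hmem
    have hY2 : Y * Y = c • 1 := by
      rw [← hc2, two_mul, pow_add]; rfl
    haveI : Nonempty (Fin (1 + m) ⊕ Fin (1 + m)) := ⟨Sum.inl ⟨0, by omega⟩⟩
    have hcc : c * c = 1 := by
      have h1 := congrArg Subtype.val (SympPrimeGraph.center_sq hmem)
      change smat (g ^ (2 * r)) * smat (g ^ (2 * r)) = 1 at h1
      rw [hc2, Matrix.smul_mul, one_mul, smul_smul] at h1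
      have h3 := congrFun (congrFun h1 (Sum.inl ⟨0, by omega⟩)) (Sum.inl ⟨0, by omega⟩)
      simpa using h3
    obtain ⟨UA, hUA⟩ : ∃ U : GL (Fin (1 + m) ⊕ Fin (1 + m)) F, U.val = A :=
      ⟨(Submonoid.subtype (Matrix.symplecticGroup (Fin (1 + m)) F)).toHomUnits (g ^ 4), rfl⟩
    obtain ⟨UY, hUY⟩ : ∃ U : GL (Fin (1 + m) ⊕ Fin (1 + m)) F, U.val = Y :=
      ⟨(Submonoid.subtype (Matrix.symplecticGroup (Fin (1 + m)) F)).toHomUnits (g ^ r), rfl⟩
    have hadj := inv_aeval (A := UA) (Y := UY) (G := Matrix.J (Fin (1 + m)) F)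
      (Matrix.isUnit_det_J _ _) (by rw [hUA]; exact SymplecticGroup.mem_iff'.1 (g ^ 4).2)
      (by rw [hUY]; exact SymplecticGroup.mem_iff'.1 (g ^ r).2) (g := h) (by rw [hUA, hUY]; exact hh)
    have hAinv : UA⁻¹ = UA ^ (r - 1) := by
      refine inv_eq_of_mul_eq_one_right (Units.ext ?_)
      rw [Units.val_mul, Units.val_pow_eq_pow_val, hUA, ← pow_succ',
        show r - 1 + 1 = r by have := hr.pos; omega, hAr, Units.val_one]
    have hYinv : (UY⁻¹ : GL (Fin (1 + m) ⊕ Fin (1 + m)) F).val = c • Y := by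
      refine Units.inv_eq_of_mul_eq_one_right ?_
      rw [hUY, Matrix.mul_smul, hY2, smul_smul, hcc, one_smul]
    rw [hAinv, hYinv, Units.val_pow_eq_pow_val, hUA] at hadj
    rcases mul_self_eq_one_iff.1 hcc with rfl | rfl
    · exfalso
      rw [one_smul] at hY2 hadj
      have h1 : aeval A (h ^ 2 - 1) = 0 := by
        rw [map_sub, map_pow, map_one, ← hh, pow_two, hY2, sub_self]
      have h3 : aeval A (h.comp (X ^ (r - 1)) - h) = 0 := by
        rw [map_sub, aeval_comp, map_pow, aeval_X, ← hadj, ← hh, sub_self]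
      obtain ⟨a, -, ha⟩ := shape_sign h2 hr hodd hpal hc' h (charpoly_dvd hsq h1) (charpoly_dvd hsq h3)
      obtain ⟨b, hb⟩ := ha
      refine hy ((FormRep.Symplectic.center_iff _).2 ⟨a, ?_⟩)
      show Y = a • 1
      rw [hh, show h = A.charpoly * b + C a by rw [← hb]; ring, map_add, map_mul, Matrix.aeval_self_charpoly,
        zero_mul, zero_add, aeval_C, Algebra.algebraMap_eq_smul_one]
    · rw [neg_one_smul] at hY2 hadj
      rcases shape_dvd h2 hr hodd hpal hc' with hd | hd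
      · exact Or.inl ⟨hd, four_dvd h2 hq hr.pos hAr hh hY2 hadj.symm (Or.inl rfl) hd⟩
      · exact Or.inr ⟨hd, four_dvd h2 hq hr.pos hAr hh hY2 hadj.symm (Or.inr rfl) hd⟩
  · rintro (⟨f, hf⟩ | h4)
    · obtain ⟨x, hx, -⟩ := sp_exists (p := p) hr.pos hf
      obtain ⟨z, hz1, hzz, hzc⟩ := exists_neg_one h2 hm
      have hz : orderOf z = 2 := orderOf_eq_prime (by rw [pow_two, hzz]) hz1
      have hg : orderOf (Schur.SpFam.em (F := F) (n := m) 1 (z * x)) = 2 * r := by
        rw [orderOf_injective _ (Schur.SpFam.em_injective (k := 1)),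
          (hzc x).orderOf_mul_eq_mul_orderOf_of_coprime (by
            rw [hz, hx]; exact (Nat.coprime_primes Nat.prime_two hr).2 (Ne.symm hr2)), hz, hx]
      refine ⟨((Schur.SpFam.em (F := F) (n := m) 1 (z * x) : Matrix.symplecticGroup (Fin (1 + m)) F) :
        Cfsg.PSp (1 + m) F), orderOf_mk_two hr hg ?_⟩
      obtain ⟨k, hk⟩ := hodd
      rw [← map_pow, (hzc x).mul_pow, show x ^ r = 1 by rw [← hx, pow_orderOf_eq_one], mul_one, hk, pow_succ,
        pow_mul, pow_two, hzz, one_pow, one_mul]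
      exact em_not_central hz1
    · obtain ⟨L, _, _, _, hd, hc⟩ := PrimeGraphClassical.exists_field (F := F) p (1 + m) (by omega)
      haveI : Module.Finite F L := Module.Finite.of_finite
      have h4r : Nat.Coprime 4 r := by
        rw [show (4 : ℕ) = 2 ^ 2 by norm_num]
        exact Nat.Coprime.pow_left 2 ((Nat.coprime_primes Nat.prime_two hr).2 (Ne.symm hr2))
      have hdiv : 4 * r ∣ Nat.card L - 1 ∨ 4 * r ∣ Nat.card L + 1 := by
        rw [hc]
        rcases h4 with ⟨a, b⟩ | ⟨a, b⟩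
        · exact Or.inl (h4r.mul_dvd_of_dvd_of_dvd b a)
        · exact Or.inr (h4r.mul_dvd_of_dvd_of_dvd b a)
      obtain ⟨g, hg⟩ := PrimeGraphClassical.exists_SL2_orderOf (L := L) hdiv
      obtain ⟨x, hx⟩ := PrimeGraphClassical.exists_one_block (F := F) (n := 1 + m) hd.le g
      rw [hg] at hx
      set y := (x : Cfsg.PSp (1 + m) F)
      have hmem : x ^ orderOf y ∈ Subgroup.center (Matrix.symplecticGroup (Fin (1 + m)) F) := by
        rw [← QuotientGroup.eq_one_iff, QuotientGroup.mk_pow, pow_orderOf_eq_one]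
      have h := orderOf_dvd_of_pow_eq_one (x := x) (n := 2 * orderOf y) (by
        rw [mul_comm, pow_mul, pow_two]; exact SympPrimeGraph.center_sq hmem)
      rw [hx, show 4 * r = 2 * (2 * r) by ring] at h
      exact ⟨y ^ (orderOf y / (2 * r)),
        orderOf_pow_orderOf_div (orderOf_pos y).ne' (Nat.dvd_of_mul_dvd_mul_left two_pos h)⟩

end symp

theorem isSquare_sign (hq : Odd qF) : IsSquare ((-1 : F) ^ n) ↔ qF ^ n % 4 = 1 := by
  have h2 : qF % 2 = 1 := Nat.odd_iff.1 hq
  rcases Nat.even_or_odd n with ⟨k, hk⟩ | ⟨k, hk⟩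
  · refine iff_of_true ⟨(-1) ^ k, by rw [hk, pow_add]⟩ ?_
    rw [hk, ← two_mul, pow_mul, Nat.pow_mod]
    have : qF ^ 2 % 4 = 1 := by
      rw [Nat.pow_mod]
      rcases (show qF % 4 = 1 ∨ qF % 4 = 3 by omega) with h | h <;> rw [h] <;> norm_num
    rw [this, one_pow, Nat.one_mod]
  · rw [hk, pow_succ, pow_mul, neg_one_sq, one_pow, one_mul, FiniteField.isSquare_neg_one_iff]
    have : qF ^ (2 * k + 1) % 4 = qF % 4 := by
      rw [pow_succ, pow_mul, Nat.mul_mod, Nat.pow_mod]
      have : qF ^ 2 % 4 = 1 := by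
        rw [Nat.pow_mod]
        rcases (show qF % 4 = 1 ∨ qF % 4 = 3 by omega) with h | h <;> rw [h] <;> norm_num
      rw [this, one_pow]
      norm_num
    rw [this]
    omega

section orth

variable {Q : QuadraticForm F (Unit ⊕ (Fin (1 + m) ⊕ Fin (1 + m)) → F)}

local notation "B" => QuadraticMap.polar (DFunLike.coe Q)
local notation "mat" g:max =>
  (Units.val (Subtype.val g) : Matrix (Unit ⊕ (Fin (1 + m) ⊕ Fin (1 + m))) (Unit ⊕ (Fin (1 + m) ⊕ Fin (1 + m))) F)

/-- An involution `-r_w` commuting with an element of order `r`. -/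
theorem og_two_of_fixed (hB : Nondeg Q) (hQ : ⇑Q = Cfsg.quadFormOdd (1 + m) F) (h2 : (2 : F) ≠ 0)
    (hr : r.Prime) (hr2 : r ≠ 2) {g : Grp Q} (hg : orderOf g = r)
    {w : Unit ⊕ (Fin (1 + m) ⊕ Fin (1 + m)) → F} (hw : ap g w = w) (hw0 : Q w ≠ 0)
    (hsq : IsSquare ((-1 : F) ^ (1 + m) * Q w)) :
    ∃ z : Grp Q, z ∈ Cfsg.Omega F ⇑Q ∧ orderOf z = 2 * r := by
  obtain ⟨a, ha, hac⟩ := exists_neg hB
  obtain ⟨s, hs⟩ := exists_refl hB hw0
  have hy : a * s ∈ Cfsg.Omega F ⇑Q := (neg_refl_mem_omega_iff hB hQ h2 (by omega) ha hs).2 hsq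
  have hy2 : orderOf (a * s) = 2 := by
    refine orderOf_eq_prime ?_ fun h => ?_
    · rw [(hac s).mul_pow, pow_two, pow_two, refl_mul_self hs, mul_one]
      exact ext_ap fun x => by rw [ap_mul, ha, ha, neg_neg, ap_one]
    · have hd := no_neg_of_odd hB h2 (by rw [finrank_space]; exact odd_two_mul_add_one _)
      have hsa : s = a := by
        have : a * a = 1 := ext_ap fun x => by rw [ap_mul, ha, ha, neg_neg, ap_one]
        rw [← one_mul s, ← this, mul_assoc, h, mul_one]
      obtain ⟨x, hx, hx0⟩ : ∃ x, B w x = 0 ∧ x ≠ 0 := by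
        have h1 := Orth.finrank_orth hB (Submodule.span F {w})
        rw [finrank_space, finrank_span_singleton (fun e => hw0 (by rw [e, QuadraticMap.map_zero]))] at h1
        obtain ⟨x, hx, hx0⟩ := Submodule.exists_mem_ne_zero_of_ne_bot
          (p := orth Q (Submodule.span F {w})) fun e => by rw [e, finrank_bot] at h1; omega
        exact ⟨x, mem_orth.1 hx w (Submodule.mem_span_singleton_self w), hx0⟩
      have e := refl_fix hs hx
      rw [hsa, ha] at e
      refine hx0 (funext fun i => ?_)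
      have e1 := congrFun e i
      rw [Pi.neg_apply] at e1
      exact (mul_eq_zero.1 (show (2 : F) * x i = 0 by linear_combination -e1)).resolve_left h2
  refine ⟨g * (a * s), mul_mem (mem_omega_of_odd hB h2 (by omega) (hr.odd_of_ne_two hr2)
    (hg ▸ pow_orderOf_eq_one g)) hy, ?_⟩
  rw [((hac g).symm.mul_right (refl_commute hs hw).symm).orderOf_mul_eq_mul_orderOf_of_coprime (by
    rw [hg, hy2]; exact (Nat.coprime_primes hr Nat.prime_two).2 hr2), hg, hy2, mul_comm]

include hp in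
theorem og_two_iff (hB : Nondeg Q) (hQ : ⇑Q = Cfsg.quadFormOdd (1 + m) F) (h2 : (2 : F) ≠ 0) (hq : Odd qF)
    (hr : r.Prime) (hr2 : r ≠ 2) (hrp : r ≠ p) :
    (∃ z : Grp Q, z ∈ Cfsg.Omega F ⇑Q ∧ orderOf z = 2 * r) ↔ Crit F m r ∨ C4 F (1 + m) r := by
  have hodd : Odd r := hr.odd_of_ne_two hr2
  have hrp' : r.Coprime p := (Nat.coprime_primes hr hp.out).2 hrp
  have hN := cast_ne_zero_of_coprime (F := F) (p := p) hrp'
  have hpow : ∀ (g : Grp Q) (k : ℕ), g ^ k = 1 → (mat g) ^ k = 1 := fun g k hk => by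
    rw [← Units.val_pow_eq_pow_val, ← SubmonoidClass.coe_pow, hk]; rfl
  have hfr := finrank_space (F := F) (n := 1 + m)
  constructor
  · rintro ⟨z, hz, hoz⟩
    refine or_iff_not_imp_left.2 fun hc => ?_
    haveI := Fact.mk hr
    have hx : orderOf (z ^ 2) = r := by
      rw [orderOf_pow' _ two_ne_zero, hoz, Nat.gcd_eq_right (dvd_mul_right 2 r),
        Nat.mul_div_cancel_left _ two_pos]
    have hy : orderOf (z ^ r) = 2 := by
      rw [orderOf_pow' _ hr.ne_zero, hoz, Nat.gcd_eq_right (dvd_mul_left r 2), Nat.mul_div_cancel _ hr.pos]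
    obtain ⟨f, hχ, hpal⟩ := og_pal (p := p) hB h2 hodd hrp' hx
    have hc' : ¬ Crit F (1 + m - 1) r := by rwa [Nat.add_sub_cancel_left]
    have hsq := shape_squarefree h2 hr hodd hpal hc'
    have hsq' : Squarefree (mat (z ^ 2)).charpoly := by rw [hχ]; exact hsq
    have hf1 := (shape h2 hr hodd hpal hc').1
    have hxr : (z ^ 2) ^ r = 1 := hx ▸ pow_orderOf_eq_one _
    have hy2 : (z ^ r) * (z ^ r) = 1 := by rw [← pow_two, ← hy, pow_orderOf_eq_one]
    have hcom : Commute (z ^ r) (z ^ 2) := (Commute.refl z).pow_pow r 2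
    obtain ⟨g, hg⟩ : ∃ g, g = z ^ 2 := ⟨_, rfl⟩
    obtain ⟨y, hyd⟩ : ∃ y, y = z ^ r := ⟨_, rfl⟩
    rw [← hg] at hxr hsq' hχ hcom hx
    rw [← hyd] at hy2 hy hcom
    obtain ⟨h, hh⟩ := exists_aeval hN (hpow g r hxr) hsq'
      (show Commute (mat y) (mat g) from congrArg (fun t : Grp Q => mat t) hcom.eq)
    obtain ⟨G, hG, hGg⟩ := exists_gram hB
    have hadj := inv_aeval (A := (g.1 : GL (Unit ⊕ (Fin (1 + m) ⊕ Fin (1 + m))) F)) (Y := y.1) (G := G) hG
      (hGg g) (hGg y) (g := h) hh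
    rw [show (y.1)⁻¹ = y.1 from congrArg Subtype.val (inv_eq_of_mul_eq_one_right hy2 : y⁻¹ = y),
      show (g.1)⁻¹ = g.1 ^ (r - 1) from inv_eq_of_mul_eq_one_right (by
        rw [← pow_succ', show r - 1 + 1 = r by have := hr.pos; omega, ← SubmonoidClass.coe_pow, hxr]; rfl),
      Units.val_pow_eq_pow_val, hh] at hadj
    have h1 : aeval (mat g) (h ^ 2 - 1) = 0 := by
      rw [map_sub, map_pow, map_one, ← hh, pow_two, ← Units.val_mul, ← Subgroup.coe_mul, hy2]
      exact sub_self _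
    have h3 : aeval (mat g) (h.comp (X ^ (r - 1)) - h) = 0 := by
      rw [map_sub, aeval_comp, map_pow, aeval_X, ← hadj, sub_self]
    have hd1 := charpoly_dvd hsq' h1
    have hd3 := charpoly_dvd hsq' h3
    rw [hχ] at hd1 hd3
    obtain ⟨a, ha, had⟩ := shape_sign h2 hr hodd hpal hc' h ((dvd_mul_left _ _).trans hd1)
      ((dvd_mul_left _ _).trans hd3)
    set b := h.eval 1
    have hb : b = 1 ∨ b = -1 := by
      refine mul_self_eq_one_iff.1 ?_
      have := eval_eq_zero_of_dvd_of_eval_eq_zero ((dvd_mul_right _ _).trans hd1)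
        (show eval 1 (X - 1 : F[X]) = 0 by simp)
      rw [eval_sub, eval_pow, eval_one] at this
      linear_combination this
    obtain ⟨w, hw, hw0, hline, hperp⟩ := exists_line hB hN (hpow g r hxr) hχ hsq hf1
    have hbw : B w w ≠ 0 := by rw [b_self]; exact mul_ne_zero h2 hw0
    have hyw : ap y w = b • w := by
      show (mat y) *ᵥ w = _
      rw [hh]; exact aeval_fixed hw h
    have hyp : ∀ x, B w x = 0 → ap y x = a • x := fun x hx => by
      obtain ⟨u, rfl⟩ := hperp x hx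
      show (mat y) *ᵥ _ = _
      rw [hh, Matrix.mulVec_mulVec, ← map_mul, ← Matrix.smul_mulVec]
      congr 1
      have hdd : (X - 1) * f ∣ (X - 1) * (h - C a) := mul_dvd_mul_left _ had
      obtain ⟨e, he⟩ := hdd
      rw [show h * (X - 1) = (X - 1) * f * e + C a * (X - 1) by rw [← he]; ring, map_add, map_mul, ← hχ,
        Matrix.aeval_self_charpoly, zero_mul, zero_add, map_mul, aeval_C, ← Algebra.smul_def]
    have hdec : ∀ x, ap y x = a • x + ((b - a) * ((B w w)⁻¹ * B w x)) • w := fun x => by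
      set c := (B w w)⁻¹ * B w x
      have h0 : B w (x - c • w) = 0 := by
        rw [b_sub_right, b_smul_right]
        simp only [c]
        field_simp
        ring
      have e := hyp _ h0
      rw [ap_sub, ap_smul, hyw] at e
      linear_combination (norm := module) e
    obtain ⟨nA, hnA, -⟩ := exists_neg hB
    obtain ⟨s, hs⟩ := exists_refl hB hw0
    have hyΩ : y ∈ Cfsg.Omega F ⇑Q := hyd ▸ pow_mem hz r
    have hy1 : y ≠ 1 := fun e => by rw [e, orderOf_one] at hy; omega
    rcases ha with rfl | rfl <;> rcases hb with hb | hb <;> rw [hb] at hdec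
    · exact absurd (ext_ap fun x => by rw [hdec, ap_one, sub_self, zero_mul, zero_smul, add_zero, one_smul]) hy1
    · exfalso
      have e : y = s := ext_ap fun x => by
        rw [hdec, hs.2, b_self]
        have := hw0
        match_scalars <;> field_simp <;> ring
      have hd : dickson hB y = 1 := MonoidHom.mem_ker.1 (Abelianization.commutator_subset_ker _ hyΩ)
      rw [e, dickson_refl hB hs] at hd
      exact absurd hd (by decide)
    · have e : y = nA * s := ext_ap fun x => by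
        rw [hdec, ap_mul, hnA, hs.2, b_self]
        have := hw0
        match_scalars <;> field_simp <;> ring
      have hcrit := (neg_refl_mem_omega_iff hB hQ h2 (by omega) hnA hs).1 (e ▸ hyΩ)
      rw [Orth.isSquare_mul_iff (pow_ne_zero _ (neg_ne_zero.2 one_ne_zero)), or_iff_right hw0] at hcrit
      obtain ⟨hp1, hm1⟩ := isSquare_line hQ h2 hr hr2 hxr hw hw0 hline
      have hodd' : qF ^ (1 + m) % 2 = 1 := Nat.odd_iff.1 hq.pow
      rcases shape_dvd h2 hr hodd hpal hc' with hd | hd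
      · refine Or.inl ⟨hd, ?_⟩
        have := (isSquare_sign hq).1 (hcrit.2 (hp1 hd))
        omega
      · refine Or.inr ⟨hd, ?_⟩
        have : ¬ qF ^ (1 + m) % 4 = 1 := fun e4 => hm1 hd (hcrit.1 ((isSquare_sign hq).2 e4))
        omega
    · exfalso
      refine no_neg_of_odd hB h2 (by rw [hfr]; exact odd_two_mul_add_one _) ⟨y, hyΩ, ?_⟩
      refine Matrix.ext_of_mulVec_single fun i => ?_
      show ap y _ = _
      rw [hdec, sub_self, zero_mul, zero_smul, add_zero, neg_one_smul, Matrix.neg_mulVec, Matrix.one_mulVec]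
  · intro hor
    by_cases hc : Crit F m r
    · obtain ⟨f, hf⟩ := hc
      obtain ⟨g, hg, -, hv⟩ := og_exists (p := p) hB hQ h2 hodd hrp' (hf.extend hr)
      obtain ⟨u, v, -, gu, gv, -, qu, qv, buv, -, -, -⟩ := hv (by simp)
      have hw : Q (((-1 : F) ^ (1 + m)) • u + v) = (-1) ^ (1 + m) := by
        rw [q_add, q_smul, qu, qv, b_smul_left, buv]; ring
      exact og_two_of_fixed hB hQ h2 hr hr2 hg (w := ((-1 : F) ^ (1 + m)) • u + v)
        (by rw [ap_add, ap_smul, gu, gv]) (by rw [hw]; exact pow_ne_zero _ (neg_ne_zero.2 one_ne_zero))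
        ⟨(-1) ^ (1 + m), by rw [hw]⟩
    have h4 := hor.resolve_left hc
    obtain ⟨L, _, _, _, hd, hcd⟩ := PrimeGraphClassical.exists_field (F := F) p (1 + m) (by omega)
    haveI : Module.Finite F L := Module.Finite.of_finite
    obtain ⟨g₀, hg₀⟩ := PrimeGraphClassical.exists_SL2_orderOf (L := L) (d := r)
      (by rw [hcd]; exact h4.imp And.left And.left)
    obtain ⟨x, hx⟩ := PrimeGraphClassical.exists_one_block (F := F) (n := 1 + m) hd.le g₀
    rw [hg₀] at hx
    have hpal := sp_pal (p := p) hr.pos hrp' hx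
    have hc' : ¬ Crit F (1 + m - 1) r := by rwa [Nat.add_sub_cancel_left]
    obtain ⟨g, hg, hχ, -⟩ := og_exists (p := p) hB hQ h2 hodd hrp' hpal
    have hgr : g ^ r = 1 := hg ▸ pow_orderOf_eq_one g
    obtain ⟨w, hw, hw0, hline, -⟩ := exists_line hB hN (hpow g r hgr) hχ
      (shape_squarefree h2 hr hodd hpal hc') (shape h2 hr hodd hpal hc').1
    obtain ⟨hp1, hm1⟩ := isSquare_line hQ h2 hr hr2 hgr hw hw0 hline
    refine og_two_of_fixed hB hQ h2 hr hr2 hg hw hw0 ?_
    rw [Orth.isSquare_mul_iff (pow_ne_zero _ (neg_ne_zero.2 one_ne_zero))]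
    refine Or.inr ?_
    rcases h4 with ⟨hd', hd4⟩ | ⟨hd', hd4⟩
    · refine iff_of_true ((isSquare_sign hq).2 ?_) (hp1 hd')
      have := Nat.one_le_pow (1 + m) qF Fintype.card_pos
      omega
    · refine iff_of_false (fun h => ?_) (hm1 hd')
      have := (isSquare_sign hq).1 h
      omega

end orth

end CfsgLib.PrimeGraphOdd
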