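import Cfsg.Agent.Lib.PrimeGraphOdd.Adjacent
import Cfsg.Agent.Lib.OddOrtho.Count

/-!
The fixed line of an element of maximal torus type in `O(2n+1,q)`.
-/

set_option autoImplicit false
set_option linter.unusedSectionVars false

namespace CfsgLib.PrimeGraphOdd

open Polynomial CfsgLib.Orth
open scoped Matrix

variable {F : Type*} [Field F] [Fintype F] {n : ℕ}

local notation "qF" => Fintype.card F

theorem charpoly_dvd {ι : Type*} [Fintype ι] [DecidableEq ι] {A : Matrix ι ι F} (hsq : Squarefree A.charpoly)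
    {g : F[X]} (hg : aeval A g = 0) : A.charpoly ∣ g := by
  rw [← minpoly_eq (hsq.squarefree_of_dvd (Matrix.minpoly_dvd_charpoly A)) hsq]
  exact minpoly.dvd F A hg

theorem aeval_fixed {ι : Type*} [Fintype ι] [DecidableEq ι] {A : Matrix ι ι F} {w : ι → F} (hw : A *ᵥ w = w)
    (h : F[X]) : aeval A h *ᵥ w = h.eval 1 • w := by
  induction h using Polynomial.induction_on' with
  | add f g hf hg => rw [map_add, Matrix.add_mulVec, hf, hg, eval_add, add_smul]
  | monomial k a =>
    have hk : ∀ k : ℕ, (A ^ k) *ᵥ w = w := fun k => by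
      induction k with
      | zero => rw [pow_zero, Matrix.one_mulVec]
      | succ k ih => rw [pow_succ, ← Matrix.mulVec_mulVec, hw, ih]
    rw [aeval_monomial, ← Algebra.smul_def, Matrix.smul_mulVec, hk, eval_monomial, one_pow, mul_one]

section orth

variable {Q : QuadraticForm F (Unit ⊕ (Fin n ⊕ Fin n) → F)}

local notation "B" => QuadraticMap.polar (DFunLike.coe Q)
local notation "V" => (Unit ⊕ (Fin n ⊕ Fin n) → F)
local notation "mat" g:max => (Units.val (Subtype.val g) : Matrix (Unit ⊕ (Fin n ⊕ Fin n)) (Unit ⊕ (Fin n ⊕ Fin n)) F)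

theorem b_fixed_aeval (g : Grp Q) {w : V} (hw : ap g w = w) (h : F[X]) (v : V) :
    B w (aeval (mat g) h *ᵥ v) = h.eval 1 * B w v := by
  induction h using Polynomial.induction_on' with
  | add a b ha hb => rw [map_add, Matrix.add_mulVec, b_add_right, ha, hb, eval_add, add_mul]
  | monomial k a =>
    have hk : ∀ (k : ℕ) (v : V), B w ((mat g) ^ k *ᵥ v) = B w v := fun k => by
      induction k with
      | zero => intro v; rw [pow_zero, Matrix.one_mulVec]
      | succ k ih =>
        intro v
        rw [pow_succ, ← Matrix.mulVec_mulVec, ih]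
        conv_lhs => rw [← hw]
        exact ap_b g w v
    rw [aeval_monomial, ← Algebra.smul_def, Matrix.smul_mulVec, b_smul_right, hk, eval_monomial, one_pow,
      mul_one]

theorem exists_line (hB : Nondeg Q) {N : ℕ} (hN : (N : F) ≠ 0) {g : Grp Q} (hA : (mat g) ^ N = 1)
    {f : F[X]} (hχ : (mat g).charpoly = (X - 1) * f) (hsq : Squarefree ((X - 1) * f)) (hf1 : f.eval 1 ≠ 0) :
    ∃ w : V, ap g w = w ∧ Q w ≠ 0 ∧ (∀ x, ap g x = x → ∃ c : F, x = c • w) ∧
      ∀ x, B w x = 0 → ∃ y, x = aeval (mat g) (X - 1 : F[X]) *ᵥ y := by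
  have hsq' : Squarefree (mat g).charpoly := by rw [hχ]; exact hsq
  obtain ⟨v, hv, hann⟩ := exists_orbit hN hA hsq'
  set w := aeval (mat g) f *ᵥ v with hwdef
  have h0 : aeval (mat g) ((X - 1) * f) = 0 := by rw [← hχ]; exact Matrix.aeval_self_charpoly _
  have hw : ap g w = w := by
    have h := congrArg (· *ᵥ v) h0
    simp only [map_mul, map_sub, aeval_X, map_one, ← Matrix.mulVec_mulVec, Matrix.zero_mulVec,
      Matrix.sub_mulVec, Matrix.one_mulVec, sub_eq_zero] at h
    exact h
  have hw0 : w ≠ 0 := fun e => by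
    have hd := hann f e
    rw [hχ] at hd
    have hf0 : f ≠ 0 := fun e => hf1 (by rw [e, eval_zero])
    have := natDegree_le_of_dvd hd hf0
    rw [natDegree_mul (monic_X_sub_one (F := F)).ne_zero hf0,
      show (X - 1 : F[X]).natDegree = 1 by simpa using natDegree_X_sub_C (1 : F)] at this
    omega
  have hbv : B w v ≠ 0 := fun e => hw0 (hB w fun x => by
    obtain ⟨h, rfl⟩ := hv x
    rw [b_fixed_aeval g hw, e, mul_zero])
  refine ⟨w, hw, fun e => mul_ne_zero hf1 hbv ?_, fun x hx => ?_, fun x hx => ?_⟩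
  · rw [← b_fixed_aeval g hw, ← hwdef, b_self, e, mul_zero]
  · obtain ⟨h, rfl⟩ := hv x
    have h1 : aeval (mat g) ((X - 1) * h) *ᵥ v = 0 := by
      simp only [map_mul, map_sub, aeval_X, map_one, ← Matrix.mulVec_mulVec, Matrix.sub_mulVec,
        Matrix.one_mulVec, sub_eq_zero]
      exact hx
    have hd := hann _ h1
    rw [hχ] at hd
    obtain ⟨a, rfl⟩ := (mul_dvd_mul_iff_left (monic_X_sub_one (F := F)).ne_zero).1 hd
    exact ⟨a.eval 1, by rw [mul_comm, map_mul, ← Matrix.mulVec_mulVec, ← hwdef, aeval_fixed hw]⟩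
  · obtain ⟨h, rfl⟩ := hv x
    rw [b_fixed_aeval g hw, mul_eq_zero, or_iff_left hbv] at hx
    obtain ⟨a, rfl⟩ : X - 1 ∣ h := by rwa [← C_1, dvd_iff_isRoot]
    exact ⟨aeval (mat g) a *ᵥ v, by rw [map_mul, Matrix.mulVec_mulVec]⟩

/-- Vectors of norm one. -/
theorem card_norm_one (h2 : (2 : F) ≠ 0) (m : ℕ) :
    (Nat.card {v : Unit ⊕ (Fin m ⊕ Fin m) → F // Cfsg.quadFormOdd m F v = 1} : ℤ) =
      (qF : ℤ) ^ (2 * m) + (qF : ℤ) ^ m := by
  induction m with
  | zero =>
    have e : Nat.card {t : F // t ^ 2 = 1} = 2 := by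
      rw [show Nat.card {t : F // t ^ 2 = 1} = Set.ncard {t : F | t ^ 2 = 1} from Nat.card_coe_set_eq _,
        show {t : F | t ^ 2 = 1} = {1, -1} by ext t; simp [sq_eq_one_iff],
        Set.ncard_pair fun e => h2 (by linear_combination e)]
    rw [Nat.card_congr (Equiv.subtypeEquiv
      (show (Unit ⊕ (Fin 0 ⊕ Fin 0) → F) ≃ F from
        ⟨fun v => v (.inl ()), fun t _ => t, fun v => funext fun i => by
          rcases i with u | i | i
          · rfl
          · exact i.elim0
          · exact i.elim0, fun t => rfl⟩) (q := fun t : F => t ^ 2 = 1) fun v => by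
        simp [Cfsg.quadFormOdd]), e]
    norm_num
  | succ m ih =>
    rw [Nat.card_congr (Equiv.subtypeEquiv (OddOrtho.peel m F)
      (q := fun w => Cfsg.quadFormOdd m F w.1 + w.2.1 * w.2.2 = 1) fun v => by
        simp [Cfsg.quadFormOdd, OddOrtho.peel, Fin.sum_univ_succ]
        constructor <;> intro h <;> linear_combination h), OddOrtho.card_add_mul, ih]
    simp only [Fintype.card_pi, Finset.prod_const, Finset.card_univ, Fintype.card_sum,
      Fintype.card_unit, Fintype.card_fin, Nat.cast_pow]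
    ring

/-- The square class of the fixed vector is given by the type of the torus. -/
theorem isSquare_line (hQ : ⇑Q = Cfsg.quadFormOdd n F) (h2 : (2 : F) ≠ 0) {r : ℕ}
    (hr : r.Prime) (hr2 : r ≠ 2) {g : Grp Q} (hg : g ^ r = 1) {w : V} (hw : ap g w = w)
    (h0 : Q w ≠ 0) (hline : ∀ x, ap g x = x → ∃ c : F, x = c • w) :
    (r ∣ qF ^ n - 1 → IsSquare (Q w)) ∧ (r ∣ qF ^ n + 1 → ¬ IsSquare (Q w)) := by
  classical
  haveI := Fact.mk hr
  let S : Type _ := {v : V // Q v = 1}
  haveI : Fintype S := Fintype.ofFinite S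
  let σ : Function.End S := fun x => (normPerm (1 : F) g) x
  have hσ : σ ^ r ^ 1 = 1 := by
    have h1 : ∀ k : ℕ, σ ^ k = fun x => ((normPerm (1 : F) g) ^ k) x := fun k => by
      induction k with
      | zero => rfl
      | succ k ih => rw [pow_succ, ih]; funext x; rw [pow_succ]; rfl
    rw [pow_one, h1, ← map_pow, hg, map_one]
    rfl
  have hmod := Equiv.Perm.card_fixedPoints_modEq hσ
  have hcard : ((Fintype.card S : ℕ) : ZMod r) = (qF : ZMod r) ^ (2 * n) + (qF : ZMod r) ^ n := by
    have h := congrArg (Int.cast : ℤ → ZMod r) (card_norm_one (F := F) h2 n)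
    push_cast at h
    rw [← h, ← Nat.card_eq_fintype_card]
    congr 1
    exact Nat.card_congr (Equiv.subtypeEquivRight fun v => by rw [hQ])
  have hzero : ¬ IsSquare (Q w) → (qF : ZMod r) ^ (2 * n) + (qF : ZMod r) ^ n = 0 := fun hns => by
    rw [← hcard, (ZMod.natCast_eq_natCast_iff _ _ r).mpr hmod]
    have : IsEmpty (Function.fixedPoints σ) := ⟨fun x => hns (by
      obtain ⟨c, hc⟩ := hline x.1.1 (congrArg Subtype.val x.2)
      have h1 := x.1.2
      rw [hc, q_smul] at h1
      have hc0 : c ≠ 0 := fun e => by rw [e] at h1; simp at h1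
      exact ⟨c⁻¹, by field_simp; linear_combination h1⟩)⟩
    rw [Fintype.card_eq_zero, Nat.cast_zero]
  have htwo : IsSquare (Q w) → Q w ≠ 0 → (qF : ZMod r) ^ (2 * n) + (qF : ZMod r) ^ n = 2 := fun ⟨d, hd⟩ h0 => by
    rw [← hcard, (ZMod.natCast_eq_natCast_iff _ _ r).mpr hmod]
    have hd0 : d ≠ 0 := fun e => h0 (by rw [hd, e, mul_zero])
    have hmem : ∀ c : F, c * c = 1 → Q ((c / d) • w) = 1 := fun c hc => by
      rw [q_smul, hd]; field_simp; linear_combination hc
    have hfix : ∀ c : F, ∀ hc : c * c = 1,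
        (⟨(c / d) • w, hmem c hc⟩ : S) ∈ Function.fixedPoints σ := fun c hc =>
      Subtype.ext (show ap g ((c / d) • w) = _ by rw [ap_smul, hw])
    let a : Function.fixedPoints σ := ⟨_, hfix 1 (one_mul 1)⟩
    let b : Function.fixedPoints σ := ⟨_, hfix (-1) (by ring)⟩
    have hw0 : w ≠ 0 := fun e => h0 (by rw [e, QuadraticMap.map_zero])
    have hab : a ≠ b := fun e => by
      have e1 : ((1 : F) / d) • w = ((-1 : F) / d) • w := congrArg (fun z : Function.fixedPoints σ => z.1.1) e
      have e2 := smul_left_injective F hw0 e1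
      field_simp at e2
      exact h2 (by linear_combination e2)
    have h2' : Fintype.card (Function.fixedPoints σ) = 2 := by
      rw [← Nat.card_eq_fintype_card, Nat.card_eq_two_iff]
      refine ⟨a, b, hab, Set.eq_univ_of_forall fun x => ?_⟩
      obtain ⟨c, hc⟩ := hline x.1.1 (congrArg Subtype.val x.2)
      have h1 := x.1.2
      rw [hc, q_smul, hd] at h1
      rcases mul_self_eq_one_iff.1 (show c * d * (c * d) = 1 by linear_combination h1) with h | h
      · refine Or.inl (Subtype.ext (Subtype.ext ?_))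
        show x.1.1 = ((1 : F) / d) • w
        rw [hc]; congr 1; field_simp; exact h
      · refine Or.inr (Set.mem_singleton_iff.2 (Subtype.ext (Subtype.ext ?_)))
        show x.1.1 = ((-1 : F) / d) • w
        rw [hc]; congr 1; field_simp; exact h
    rw [h2', Nat.cast_two]
  have h2r : (2 : ZMod r) ≠ 0 := fun h => hr2 ((Nat.prime_dvd_prime_iff_eq hr Nat.prime_two).1
    ((ZMod.natCast_eq_zero_iff 2 r).1 (by exact_mod_cast h)))
  constructor
  · intro hd
    have hq : (qF : ZMod r) ^ n = 1 := by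
      rw [← ZMod.natCast_eq_zero_iff, Nat.cast_sub (Nat.one_le_pow _ _ Fintype.card_pos), sub_eq_zero,
        Nat.cast_pow, Nat.cast_one] at hd
      exact hd
    by_contra hns
    have := hzero hns
    rw [mul_comm, pow_mul, hq] at this
    exact h2r (by linear_combination this)
  · intro hd hs
    have hq : (qF : ZMod r) ^ n = -1 := by
      rw [← ZMod.natCast_eq_zero_iff, Nat.cast_add, Nat.cast_pow, Nat.cast_one] at hd
      linear_combination hd
    have := htwo hs h0
    rw [mul_comm, pow_mul, hq] at this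
    exact h2r (by linear_combination -this)

end orth

end CfsgLib.PrimeGraphOdd
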